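import Cfsg.Agent.EqLemmas
import Mathlib

/-!
Halves of the pairs in a group, and automorphisms of odd order.

* `Halves` : `W` is generated over `Y` by halves `P i`, each with its opposite root group `R i` over `C`
* `Halves.map_le` : a group of automorphisms of odd order maps `W` into `C`
-/

set_option autoImplicit false

namespace Cfsg.Agent.FFPush

open Subgroup
open scoped commutatorElement

universe u

variable {S : Type u} [Group S] [Finite S] {ι : Type}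

/-- The properties of the halves. -/
structure Halves (W Y B C N : Subgroup S) (q : ℕ) (R P : ι → Subgroup S) : Prop where
  one_lt : 1 < q
  B_normal : B.Normal
  W_normal : W.Normal
  C_normal : C.Normal
  W_le_C : W ≤ C
  C_le_B : C ≤ B
  Y_le_P : ∀ i, Y ≤ P i
  P_le_W : ∀ i, P i ≤ W
  W_comm : ∀ x ∈ W, ∀ y ∈ W, x * y = y * x
  W_sq : ∀ x ∈ W, x * x = 1
  C_cent : ∀ c ∈ C, ∀ x ∈ W, c * x = x * c
  Y_cent : ∀ y ∈ Y, ∀ b ∈ B, y * b = b * y
  C_eq : ∀ b ∈ B, (∀ i, ∀ x ∈ P i, ⁅x, b⁆ = 1) → b ∈ C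
  W_gen : W ≤ (⨆ i, P i) ⊔ Y
  comm : ∀ x ∈ W, ∀ b ∈ B, ⁅x, b⁆ ∈ Y
  mem_R : ∀ i b, b ∈ R i ↔ b ∈ B ∧ ∀ k, k ≠ i → ∀ x ∈ P k, ⁅x, b⁆ = 1
  R_gen : B ≤ ⨆ i, R i
  sharp : ∀ i, ∀ b ∈ R i, b ∉ C → ∀ x ∈ P i, ⁅x, b⁆ = 1 → x ∈ Y
  indep : ∀ i k, k ≠ i → ∀ b ∈ R i, ∀ b' ∈ R k, ∀ x ∈ P i, ∀ x' ∈ W, ⁅x, b⁆ = ⁅x', b'⁆ → ⁅x, b⁆ = 1
  indepN : ∀ i, ∀ b ∈ R i, ∀ x ∈ P i, ⁅x, b⁆ ∈ N → ⁅x, b⁆ = 1
  P_index : ∀ i, Y.relIndex (P i) = q
  R_index : ∀ i, C.relIndex (R i) ≤ q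
  killed : ∀ x ∈ C, (∀ b ∈ B, ⁅x, b⁆ ∈ Y) → ∀ c ∈ C, ⁅x, c⁆ ∈ N
  sq : ∀ x ∈ C, x * x ∈ Y → x * x ∈ N
  member : ∀ x ∈ C, x * x = 1 → (∀ c ∈ C, x * c = c * x) → ∀ i, ∃ v ∈ W, ∀ b ∈ R i, ⁅x, b⁆ = ⁅v, b⁆
  Y_max : ∀ x ∈ C, x * x = 1 → (∀ b ∈ B, x * b = b * x) → x ∈ Y
  trans : ∀ i k, ∃ s, ∃ b ∈ R i, b ∉ C ∧ s * b * s⁻¹ ∈ R k

/-- A candidate for an opposite half. -/
structure Half (Y B : Subgroup S) (q : ℕ) (X : Subgroup S) : Prop where
  le_B : X ≤ B
  Y_le : Y ≤ X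
  comm : ∀ x ∈ X, ∀ y ∈ X, x * y = y * x
  sq : ∀ x ∈ X, x * x = 1
  index : Y.relIndex X = q
  small : ∀ x ∈ X, ∃ L : Subgroup S, Nat.card ↥L ≤ q ∧ ∀ b ∈ B, ⁅x, b⁆ ∈ L

/-- Two subgroups do not commute. -/
def NonComm (X X' : Subgroup S) : Prop := ∃ x ∈ X, ∃ y ∈ X', x * y ≠ y * x

omit [Finite S] in
theorem NonComm.symm {X X' : Subgroup S} (h : NonComm X X') : NonComm X' X := by
  obtain ⟨x, hx, y, hy, hne⟩ := h
  exact ⟨y, hy, x, hx, fun e => hne e.symm⟩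

omit [Finite S] in
theorem NonComm.map {X X' : Subgroup S} (h : NonComm X X') (φ : S ≃* S) :
    NonComm (X.map φ.toMonoidHom) (X'.map φ.toMonoidHom) := by
  obtain ⟨x, hx, y, hy, hne⟩ := h
  refine ⟨φ x, mem_map_of_mem _ hx, φ y, mem_map_of_mem _ hy, fun e => hne (φ.injective ?_)⟩
  rwa [map_mul, map_mul]

variable {W Y B C N : Subgroup S} {q : ℕ} {R P : ι → Subgroup S}

namespace Halves

variable (h : Halves W Y B C N q R P)
include h

theorem W_le_B : W ≤ B := h.W_le_C.trans h.C_le_B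

theorem C_le_R (i : ι) : C ≤ R i := fun c hc => (h.mem_R i c).2 ⟨h.C_le_B hc, fun k _ x hx =>
  commutatorElement_eq_one_iff_mul_comm.2 (h.C_cent c hc x (h.P_le_W k hx)).symm⟩

theorem R_le_B (i : ι) : R i ≤ B := fun b hb => ((h.mem_R i b).1 hb).1

/-- The map `w ↦ [w,b]` is multiplicative on `W`. -/
theorem mul_left {v w b : S} (hv : v ∈ W) (hw : w ∈ W) (hb : b ∈ B) : ⁅v * w, b⁆ = ⁅v, b⁆ * ⁅w, b⁆ := by
  have hy := h.Y_cent _ (h.comm w hw b hb)
  calc ⁅v * w, b⁆ = v * ⁅w, b⁆ * v⁻¹ * ⁅v, b⁆ := by simp only [commutatorElement_def]; group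
    _ = ⁅w, b⁆ * ⁅v, b⁆ := by rw [← hy v (h.W_le_B hv)]; group
    _ = ⁅v, b⁆ * ⁅w, b⁆ := hy _ (h.W_le_B (commutatorElement_mem hv hb))
where
  commutatorElement_mem {v b : S} (hv : v ∈ W) (_hb : b ∈ B) : ⁅v, b⁆ ∈ W := by
    rw [commutatorElement_def, mul_assoc, mul_assoc]
    refine mul_mem hv ?_
    rw [← mul_assoc]
    exact h.W_normal.conj_mem _ (inv_mem hv) b

/-- The map `b ↦ [w,b]` is multiplicative on `B`. -/
theorem mul_right {w b b' : S} (hw : w ∈ W) (hb : b ∈ B) (hb' : b' ∈ B) : ⁅w, b * b'⁆ = ⁅w, b⁆ * ⁅w, b'⁆ := by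
  calc ⁅w, b * b'⁆ = ⁅w, b⁆ * (b * ⁅w, b'⁆ * b⁻¹) := by simp only [commutatorElement_def]; group
    _ = ⁅w, b⁆ * ⁅w, b'⁆ := by rw [← h.Y_cent _ (h.comm w hw b' hb') b hb]; group

/-- On the root group over `i` every element of `W` acts like one of `P i`. -/
theorem exists_part {v : S} (hv : v ∈ W) (i : ι) :
    ∃ x ∈ P i, ∀ b ∈ R i, ⁅v, b⁆ = ⁅x, b⁆ := by
  let H : Subgroup S :=
    { carrier := {v | v ∈ W ∧ ∃ x ∈ P i, ∀ b ∈ R i, ⁅v, b⁆ = ⁅x, b⁆}
      one_mem' := ⟨one_mem _, 1, one_mem _, fun _ _ => rfl⟩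
      mul_mem' := fun {v w} hv hw => by
        obtain ⟨hv, x, hx, hxv⟩ := hv
        obtain ⟨hw, y, hy, hyw⟩ := hw
        refine ⟨mul_mem hv hw, x * y, mul_mem hx hy, fun b hb => ?_⟩
        rw [h.mul_left hv hw (h.R_le_B i hb), h.mul_left (h.P_le_W i hx) (h.P_le_W i hy) (h.R_le_B i hb),
          hxv b hb, hyw b hb]
      inv_mem' := fun {v} hv => by
        obtain ⟨hv, x, hx, hxv⟩ := hv
        refine ⟨inv_mem hv, x, hx, fun b hb => ?_⟩
        rw [show v⁻¹ = v from inv_eq_of_mul_eq_one_right (h.W_sq v hv)]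
        exact hxv b hb }
  suffices hle : W ≤ H from (hle hv).2
  refine h.W_gen.trans (sup_le (iSup_le fun k x hx => ⟨h.P_le_W k hx, ?_⟩) fun y hy => ?_)
  · by_cases e : k = i
    · subst e; exact ⟨x, hx, fun _ _ => rfl⟩
    · refine ⟨1, one_mem _, fun b hb => ?_⟩
      rw [((h.mem_R i b).1 hb).2 k e x hx, commutatorElement_one_left]
  · refine ⟨h.P_le_W i (h.Y_le_P i hy), 1, one_mem _, fun b hb => ?_⟩
    rw [commutatorElement_eq_one_iff_mul_comm.2 (h.Y_cent y hy b (h.R_le_B i hb)), commutatorElement_one_left]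

/-- On `P i` every element of `B` acts like one of the root group over `i`. -/
theorem exists_root {b : S} (hb : b ∈ B) (i : ι) : ∃ u ∈ R i, ∀ x ∈ P i, ⁅x, b⁆ = ⁅x, u⁆ := by
  let H : Subgroup S :=
    { carrier := {b | b ∈ B ∧ ∃ u ∈ R i, ∀ x ∈ P i, ⁅x, b⁆ = ⁅x, u⁆}
      one_mem' := ⟨one_mem _, 1, one_mem _, fun _ _ => rfl⟩
      mul_mem' := fun {a b} ha hb => by
        obtain ⟨ha, u, hu, hua⟩ := ha
        obtain ⟨hb, w, hw, hwb⟩ := hb
        refine ⟨mul_mem ha hb, u * w, mul_mem hu hw, fun x hx => ?_⟩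
        rw [h.mul_right (h.P_le_W i hx) ha hb, h.mul_right (h.P_le_W i hx) (h.R_le_B i hu) (h.R_le_B i hw),
          hua x hx, hwb x hx]
      inv_mem' := fun {a} ha => by
        obtain ⟨ha, u, hu, hua⟩ := ha
        refine ⟨inv_mem ha, u⁻¹, inv_mem hu, fun x hx => ?_⟩
        have hinv : ∀ b ∈ B, ⁅x, b⁻¹⁆ = ⁅x, b⁆⁻¹ := fun b hb => eq_inv_of_mul_eq_one_left (by
          rw [← h.mul_right (h.P_le_W i hx) (inv_mem hb) hb, inv_mul_cancel, commutatorElement_one_right])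
        rw [hinv a ha, hinv u (h.R_le_B i hu), hua x hx] }
  suffices hle : B ≤ H from (hle hb).2
  refine h.R_gen.trans (iSup_le fun k u hu => ⟨h.R_le_B k hu, ?_⟩)
  by_cases e : k = i
  · subst e; exact ⟨u, hu, fun _ _ => rfl⟩
  · refine ⟨1, one_mem _, fun x hx => ?_⟩
    rw [((h.mem_R k u).1 hu).2 i (Ne.symm e) x hx, commutatorElement_one_right]

/-- The commutators of a root element with its half. -/
theorem exists_image {i : ι} {b : S} (hb : b ∈ R i) (hbC : b ∉ C) :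
    ∃ I : Subgroup S, Nat.card ↥I = q ∧ ∀ z, z ∈ I ↔ ∃ x ∈ P i, ⁅x, b⁆ = z := by
  let φ : ↥(P i) →* S := MonoidHom.mk' (fun x => ⁅(x : S), b⁆) fun x y =>
    h.mul_left (h.P_le_W i x.2) (h.P_le_W i y.2) (h.R_le_B i hb)
  refine ⟨φ.range, ?_, fun z => ⟨?_, ?_⟩⟩
  · have hker : φ.ker = Y.subgroupOf (P i) := by
      ext x
      exact ⟨fun hx => h.sharp i b hb hbC x x.2 hx, fun hx => commutatorElement_eq_one_iff_mul_comm.2
        (h.Y_cent x hx b (h.R_le_B i hb))⟩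
    rw [← index_ker, hker]
    exact h.P_index i
  · rintro ⟨x, rfl⟩; exact ⟨x, x.2, rfl⟩
  · rintro ⟨x, hx, rfl⟩; exact ⟨⟨x, hx⟩, rfl⟩

/-- An element moving little lies in one root group. -/
theorem spec {b : S} (hb : b ∈ B) (hbC : b ∉ C) {L : Subgroup S} (hL : Nat.card ↥L ≤ q)
    (hbL : ∀ x ∈ W, ⁅x, b⁆ ∈ L) : ∃ i, b ∈ R i ∧ ∀ z ∈ L, ∃ x ∈ P i, ⁅x, b⁆ = z := by
  have key : ∀ i, ∀ x ∈ P i, ⁅x, b⁆ ≠ 1 → ∃ u ∈ R i, (∀ y ∈ P i, ⁅y, b⁆ = ⁅y, u⁆) ∧
      ∀ z ∈ L, ∃ y ∈ P i, ⁅y, u⁆ = z := by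
    intro i x hx hne
    obtain ⟨u, hu, hub⟩ := h.exists_root hb i
    have huC : u ∉ C := fun hc => hne (by
      rw [hub x hx]; exact commutatorElement_eq_one_iff_mul_comm.2 (h.C_cent u hc x (h.P_le_W i hx)).symm)
    obtain ⟨I, hI, hmem⟩ := h.exists_image hu huC
    have hIL : I = L := eq_of_le_of_card_ge (fun z hz => by
      obtain ⟨y, hy, rfl⟩ := (hmem z).1 hz
      rw [← hub y hy]
      exact hbL y (h.P_le_W i hy)) (by rw [hI]; exact hL)
    exact ⟨u, hu, hub, fun z hz => (hmem z).1 (hIL.ge hz)⟩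
  obtain ⟨i, x, hx, hne⟩ : ∃ i, ∃ x ∈ P i, ⁅x, b⁆ ≠ 1 := by
    by_contra hno
    push Not at hno
    exact hbC (h.C_eq b hb hno)
  obtain ⟨u, hu, hub, hzu⟩ := key i x hx hne
  refine ⟨i, (h.mem_R i b).2 ⟨hb, fun k hk y hy => ?_⟩, fun z hz => ?_⟩
  · by_contra hne'
    obtain ⟨u', hu', hub', -⟩ := key k y hy hne'
    obtain ⟨y₀, hy₀, e⟩ := hzu _ (hbL y (h.P_le_W k hy))
    rw [hub' y hy] at e hne'
    exact hne' (h.indep k i (Ne.symm hk) u' hu' u hu y hy y₀ (h.P_le_W i hy₀) e.symm)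
  · obtain ⟨y, hy, e⟩ := hzu z hz
    exact ⟨y, hy, by rw [hub y hy, e]⟩

theorem exists_moved {i : ι} {b : S} (hb : b ∈ R i) (hbC : b ∉ C) : ∃ x ∈ P i, ⁅x, b⁆ ≠ 1 := by
  by_contra hno
  push Not at hno
  refine hbC (h.C_eq b (h.R_le_B i hb) fun k x hx => ?_)
  by_cases e : k = i
  · subst e; exact hno x hx
  · exact ((h.mem_R i b).1 hb).2 k e x hx

theorem root_unique {i k : ι} {b : S} (hb : b ∈ R i) (hb' : b ∈ R k) (hbC : b ∉ C) : i = k := by
  obtain ⟨x, hx, hne⟩ := h.exists_moved hb hbC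
  by_contra hik
  exact hne (((h.mem_R k b).1 hb').2 i hik x hx)

/-- A product of two root elements moving little has both in one root group. -/
theorem not_split {i k : ι} {b b' : S} (hb : b ∈ R i) (hbC : b ∉ C) (hb' : b' ∈ R k) (hbC' : b' ∉ C)
    {L : Subgroup S} (hL : Nat.card ↥L ≤ q) (hbL : ∀ x ∈ W, ⁅x, b * b'⁆ ∈ L) : i = k := by
  by_contra hik
  have hB := mul_mem (h.R_le_B i hb) (h.R_le_B k hb')
  have hi : ∀ x ∈ P i, ⁅x, b * b'⁆ = ⁅x, b⁆ := fun x hx => by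
    rw [h.mul_right (h.P_le_W i hx) (h.R_le_B i hb) (h.R_le_B k hb'), ((h.mem_R k b').1 hb').2 i hik x hx, mul_one]
  have hk : ∀ x ∈ P k, ⁅x, b * b'⁆ = ⁅x, b'⁆ := fun x hx => by
    rw [h.mul_right (h.P_le_W k hx) (h.R_le_B i hb) (h.R_le_B k hb'), ((h.mem_R i b).1 hb).2 k (Ne.symm hik) x hx,
      one_mul]
  obtain ⟨x, hx, hne⟩ := h.exists_moved hb hbC
  obtain ⟨y, hy, hne'⟩ := h.exists_moved hb' hbC'
  have hC : b * b' ∉ C := fun hc => hne (by
    rw [← hi x hx]; exact commutatorElement_eq_one_iff_mul_comm.2 (h.C_cent _ hc x (h.P_le_W i hx)).symm)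
  obtain ⟨j, hj, -⟩ := h.spec hB hC hL hbL
  by_cases e : j = i
  · exact hne' (by rw [← hk y hy]; exact ((h.mem_R j _).1 hj).2 k (fun e' => hik (e.symm.trans e'.symm)) y hy)
  · exact hne (by rw [← hi x hx]; exact ((h.mem_R j _).1 hj).2 i (Ne.symm e) x hx)

/-- An involution of `C` moving little and commuting with an element of the root group lies in `Y`. -/
theorem mem_Y {i : ι} {x u : S} (hx : x ∈ C) (hsq : x * x = 1) (hu : u ∈ R i) (huC : u ∉ C)
    (hxB : ∀ b ∈ B, ∃ p ∈ P i, ⁅p, u⁆ = ⁅x, b⁆) (hxu : x * u = u * x) : x ∈ Y := by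
  have hcC : ∀ c ∈ C, x * c = c * x := fun c hc => by
    obtain ⟨p, hp, e⟩ := hxB c (h.C_le_B hc)
    rw [← commutatorElement_eq_one_iff_mul_comm, ← e]
    refine h.indepN i u hu p hp ?_
    rw [e]
    refine h.killed x hx (fun b hb => ?_) c hc
    obtain ⟨p', hp', e'⟩ := hxB b hb
    rw [← e']
    exact h.comm p' (h.P_le_W i hp') u (h.R_le_B i hu)
  have key : ∀ k, R k ≤ centralizer ({x} : Set S) := by
    intro k b hb
    obtain ⟨v, hv, e⟩ := h.member x hx hsq hcC k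
    have h1 : ⁅x, b⁆ = 1 := by
      by_cases hik : k = i
      · subst hik
        obtain ⟨p, hp, e'⟩ := h.exists_part hv k
        have h2 : ⁅p, u⁆ = 1 := by
          rw [← e' u hu, ← e u hu, commutatorElement_eq_one_iff_mul_comm]; exact hxu
        rw [e b hb, e' b hb, commutatorElement_eq_one_iff_mul_comm]
        exact h.Y_cent p (h.sharp k u hu huC p hp h2) b (h.R_le_B k hb)
      · obtain ⟨p, hp, e'⟩ := hxB b (h.R_le_B k hb)
        rw [← e']
        exact h.indep i k hik u hu b hb p hp v hv (e'.trans (e b hb))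
    exact mem_centralizer_singleton_iff.2 (commutatorElement_eq_one_iff_mul_comm.1 h1).symm
  exact h.Y_max x hx hsq fun b hb =>
    (mem_centralizer_singleton_iff.1 ((h.R_gen.trans (iSup_le key)) hb)).symm

/-- A candidate not commuting with a half is opposite to it. -/
theorem opposite {X : Subgroup S} (hX : Half Y B q X) {i : ι} (hn : NonComm X (P i)) :
    X ≤ R i ∧ (∀ x ∈ X, x ∈ C → x ∈ Y) ∧
      ∀ x ∈ X, x ∉ C → ∀ b ∈ B, ∃ p ∈ P i, ⁅p, x⁆ = ⁅x, b⁆ := by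
  have hsm : ∀ x ∈ X, x ∉ C → ∃ j, x ∈ R j ∧ ∃ L : Subgroup S, Nat.card ↥L ≤ q ∧ (∀ b ∈ B, ⁅x, b⁆ ∈ L) ∧
      (∀ w ∈ W, ⁅w, x⁆ ∈ L) ∧ ∀ z ∈ L, ∃ p ∈ P j, ⁅p, x⁆ = z := by
    intro x hx hxC
    obtain ⟨L, hL, hxL⟩ := hX.small x hx
    have hxW : ∀ w ∈ W, ⁅w, x⁆ ∈ L := fun w hw => by
      rw [← commutatorElement_inv]; exact inv_mem (hxL w (h.W_le_B hw))
    obtain ⟨j, hj, hLj⟩ := h.spec (hX.le_B hx) hxC hL hxW
    exact ⟨j, hj, L, hL, hxL, hxW, hLj⟩
  obtain ⟨u, hu, y, hy, hne⟩ := hn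
  have huC : u ∉ C := fun hc => hne (h.C_cent u hc y (h.P_le_W i hy))
  obtain ⟨j, huj, L, hL, huL, huW, hLj⟩ := hsm u hu huC
  obtain rfl : j = i := by
    by_contra hji
    exact hne (commutatorElement_eq_one_iff_mul_comm.1 (((h.mem_R j u).1 huj).2 i (Ne.symm hji) y hy)).symm
  have hle : X ≤ R j := fun x hx => by
    by_cases hxC : x ∈ C
    · exact h.C_le_R j hxC
    obtain ⟨k, hk, -⟩ := hsm x hx hxC
    obtain ⟨L', hL', hxL'⟩ := hX.small (u * x) (mul_mem hu hx)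
    obtain rfl := h.not_split huj huC hk hxC hL' fun w hw => by
      rw [← commutatorElement_inv]; exact inv_mem (hxL' w (h.W_le_B hw))
    exact hk
  refine ⟨hle, fun x hx hxC => h.mem_Y hxC (hX.sq x hx) huj huC (fun b hb => ?_) (hX.comm x hx u hu),
    fun x hx hxC b hb => ?_⟩
  · have huxC : u * x ∉ C := fun hh => huC ((C.mul_mem_cancel_right hxC).1 hh)
    obtain ⟨k, hk, L', hL', hxL', hxW', hL'k⟩ := hsm (u * x) (mul_mem hu hx) huxC
    have hLe : ∀ w ∈ W, ⁅w, u * x⁆ = ⁅w, u⁆ := fun w hw => by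
      rw [h.mul_right hw (hX.le_B hu) (hX.le_B hx),
        commutatorElement_eq_one_iff_mul_comm.2 (h.C_cent x hxC w hw).symm, mul_one]
    obtain ⟨I, hI, hImem⟩ := h.exists_image huj huC
    have hIL : I = L' := eq_of_le_of_card_ge (fun z hz => by
      obtain ⟨p, hp, rfl⟩ := (hImem z).1 hz
      rw [← hLe p (h.P_le_W j hp)]
      exact hxW' p (h.P_le_W j hp)) (by rw [hI]; exact hL')
    have h1 : ⁅u * x, b⁆ ∈ I := hIL.ge (hxL' b hb)
    have h2 : ⁅u, b⁆ ∈ I := (hImem _).2 (hLj _ (huL b hb))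
    obtain ⟨p, hp, hpe⟩ := (hImem _).1 h2
    have h3 : u * ⁅x, b⁆ * u⁻¹ ∈ I := by
      have := mul_mem h1 (inv_mem h2)
      rwa [show ⁅u * x, b⁆ * ⁅u, b⁆⁻¹ = u * ⁅x, b⁆ * u⁻¹ by simp only [commutatorElement_def]; group] at this
    obtain ⟨p', hp', hpe'⟩ := (hImem _).1 h3
    refine ⟨p', hp', ?_⟩
    have h4 := h.Y_cent _ (h.comm p' (h.P_le_W j hp') u (hX.le_B hu)) u (hX.le_B hu)
    rw [hpe'] at h4
    rw [hpe']
    calc u * ⁅x, b⁆ * u⁻¹ = u⁻¹ * (u * (u * ⁅x, b⁆ * u⁻¹)) * 1 := by group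
      _ = u⁻¹ * (u * ⁅x, b⁆ * u⁻¹ * u) * 1 := by rw [h4]
      _ = ⁅x, b⁆ := by group
  · obtain ⟨k, hk, L', -, hxL', -, hL'k⟩ := hsm x hx hxC
    obtain rfl := h.root_unique hk (hle hx) hxC
    exact hL'k _ (hxL' b hb)

/-- At most one candidate is opposite to a half. -/
theorem unique {X X' : Subgroup S} (hX : Half Y B q X) (hX' : Half Y B q X') {i : ι}
    (hn : NonComm X (P i)) (hn' : NonComm X' (P i)) : X = X' := by
  obtain ⟨hle, hXY, hXI⟩ := h.opposite hX hn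
  obtain ⟨hle', hXY', hXI'⟩ := h.opposite hX' hn'
  haveI := h.C_normal
  have hcov : R i ≤ X ⊔ C := by
    have h1 : X ⊓ C = Y := le_antisymm (fun x hx => hXY x hx.1 hx.2)
      (le_inf hX.Y_le ((h.Y_le_P i).trans ((h.P_le_W i).trans h.W_le_C)))
    have h2 : C.relIndex (X ⊔ C) = q := by
      rw [relIndex_sup_right, ← inf_relIndex_right, inf_comm, h1, hX.index]
    have h3 := relIndex_mul_relIndex C (X ⊔ C) (R i) le_sup_right (sup_le hle (h.C_le_R i))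
    rw [h2] at h3
    rw [← relIndex_eq_one]
    have hpos : (X ⊔ C).relIndex (R i) ≠ 0 := index_ne_zero_of_finite (H := (X ⊔ C).subgroupOf (R i))
    have h4 := h.R_index i
    rw [← h3] at h4
    have := h.one_lt
    nlinarith [Nat.pos_of_ne_zero hpos]
  have hsub : X' ≤ X := by
    intro u' hu'
    by_cases hu'C : u' ∈ C
    · exact hX.Y_le (hXY' u' hu' hu'C)
    obtain ⟨u, hu, c, hc, rfl⟩ := mem_sup_of_normal_right.1 (hcov (hle' hu'))
    have huC : u ∉ C := fun hh => hu'C (mul_mem hh hc)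
    have huB := hX.le_B hu
    obtain ⟨I, hI, hImem⟩ := h.exists_image (hle hu) huC
    have hWu : ∀ p ∈ P i, ⁅p, u * c⁆ = ⁅p, u⁆ := fun p hp => by
      rw [h.mul_right (h.P_le_W i hp) huB (h.C_le_B hc),
        commutatorElement_eq_one_iff_mul_comm.2 (h.C_cent c hc p (h.P_le_W i hp)).symm, mul_one]
    have hIB : ∀ z ∈ I, ∀ b ∈ B, z * b = b * z := fun z hz => by
      obtain ⟨p, hp, rfl⟩ := (hImem z).1 hz
      exact h.Y_cent _ (h.comm p (h.P_le_W i hp) u huB)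
    have hcB : ∀ b ∈ B, ⁅c, b⁆ ∈ I := fun b hb => by
      have h1 : ⁅u * c, b⁆ = u * ⁅c, b⁆ * u⁻¹ * ⁅u, b⁆ := by simp only [commutatorElement_def]; group
      have h2 : u * ⁅c, b⁆ * u⁻¹ ∈ I := by
        obtain ⟨p, hp, e⟩ := hXI' _ hu' hu'C b hb
        rw [hWu p hp] at e
        have := mul_mem ((hImem _).2 ⟨p, hp, e⟩) (inv_mem ((hImem _).2 (hXI u hu huC b hb)))
        rwa [h1, mul_inv_cancel_right] at this
      have h3 : ⁅c, b⁆ = u⁻¹ * (u * ⁅c, b⁆ * u⁻¹) * u := by group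
      rwa [h3, mul_assoc, hIB _ h2 u huB, ← mul_assoc, inv_mul_cancel, one_mul]
    have hcu : ⁅u, c⁆ = (c * c)⁻¹ := by
      have h1 := hX'.sq _ hu'
      have h2 : u * c * u = c⁻¹ := eq_inv_of_mul_eq_one_left (by simpa [mul_assoc] using h1)
      rw [commutatorElement_def, show u⁻¹ = u from inv_eq_of_mul_eq_one_right (hX.sq u hu), h2, mul_inv_rev]
    have hcc : c * c = 1 := by
      have h1 : c * c ∈ I := by rw [← inv_inv (c * c), ← hcu, commutatorElement_inv]; exact hcB u huB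
      obtain ⟨p, hp, e⟩ := (hImem _).1 h1
      rw [← e]
      refine h.indepN i u (hle hu) p hp ?_
      rw [e]
      exact h.sq c hc (e ▸ h.comm p (h.P_le_W i hp) u huB)
    have hcomm : c * u = u * c := by
      rw [hcc, inv_one, commutatorElement_eq_one_iff_mul_comm] at hcu
      exact hcu.symm
    exact mul_mem hu (hX.Y_le (h.mem_Y hc hcc (hle hu) huC (fun b hb => (hImem _).1 (hcB b hb)) hcomm))
  have h3 := relIndex_mul_relIndex Y X' X hX'.Y_le hsub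
  rw [hX'.index, hX.index] at h3
  have h4 : X'.relIndex X = 1 := Nat.eq_of_mul_eq_mul_left (by have := h.one_lt; omega) (h3.trans (mul_one q).symm)
  exact le_antisymm (relIndex_eq_one.1 h4) hsub

/-- Conjugation permutes the root groups. -/
theorem conj_R (s : S) (i : ι) : ∃ k, ∀ b ∈ R i, s * b * s⁻¹ ∈ R k := by
  obtain ⟨-, b₀, hb₀, hb₀C, -⟩ := h.trans i i
  have hsm : ∀ b ∈ R i, b ∉ C → ∃ L : Subgroup S, Nat.card ↥L ≤ q ∧ ∀ x ∈ W, ⁅x, s * b * s⁻¹⁆ ∈ L := by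
    intro b hb hbC
    obtain ⟨I, hI, hmem⟩ := h.exists_image hb hbC
    refine ⟨I.map (MulAut.conj s).toMonoidHom, by rw [card_map_of_injective (MulAut.conj s).injective, hI],
      fun x hx => ?_⟩
    have hx' : s⁻¹ * x * s ∈ W := by simpa using h.W_normal.conj_mem x hx s⁻¹
    obtain ⟨p, hp, e⟩ := h.exists_part hx' i
    refine ⟨_, (hmem _).2 ⟨p, hp, rfl⟩, ?_⟩
    show s * ⁅p, b⁆ * s⁻¹ = _
    rw [← e b hb]
    simp only [commutatorElement_def]; group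
  have hnC : ∀ b, b ∉ C → s * b * s⁻¹ ∉ C := fun b hb hc =>
    hb (by simpa [mul_assoc] using h.C_normal.conj_mem _ hc s⁻¹)
  obtain ⟨L, hL, hbL⟩ := hsm b₀ hb₀ hb₀C
  obtain ⟨k, hk, -⟩ := h.spec (h.B_normal.conj_mem b₀ (h.R_le_B i hb₀) s) (hnC _ hb₀C) hL hbL
  refine ⟨k, fun b hb => ?_⟩
  by_cases hbC : b ∈ C
  · exact h.C_le_R k (h.C_normal.conj_mem b hbC s)
  obtain ⟨L', hL', hbL'⟩ := hsm b hb hbC
  obtain ⟨k', hk', -⟩ := h.spec (h.B_normal.conj_mem b (h.R_le_B i hb) s) (hnC _ hbC) hL' hbL'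
  by_cases e : k = k'
  · exact e ▸ hk'
  exfalso
  by_cases hpC : b₀ * b ∈ C
  · refine e (h.root_unique hk ?_ (hnC _ hb₀C))
    have h1 : s * b₀ * s⁻¹ = s * (b₀ * b) * s⁻¹ * (s * b * s⁻¹)⁻¹ := by group
    rw [h1]
    exact mul_mem (h.C_le_R k' (h.C_normal.conj_mem _ hpC s)) (inv_mem hk')
  obtain ⟨L'', hL'', hbL''⟩ := hsm (b₀ * b) (mul_mem hb₀ hb) hpC
  refine e (h.not_split hk (hnC _ hb₀C) hk' (hnC _ hbC) hL'' fun x hx => ?_)
  rw [show s * b₀ * s⁻¹ * (s * b * s⁻¹) = s * (b₀ * b) * s⁻¹ by group]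
  exact hbL'' x hx

/-- Conjugation permutes the halves. -/
theorem conj_P (s : S) (i : ι) : ∃ k, (P i).map (MulAut.conj s).toMonoidHom = P k ∧
    ∀ b ∈ R i, b ∉ C → ∀ k', s * b * s⁻¹ ∈ R k' → k' = k := by
  choose σ hσ using h.conj_R s
  choose τ hτ using h.conj_R s⁻¹
  have hτσ : ∀ i, τ (σ i) = i := fun i => by
    obtain ⟨-, b, hb, hbC, -⟩ := h.trans i i
    have h1 := hτ _ _ (hσ i b hb)
    rw [inv_inv, show s⁻¹ * (s * b * s⁻¹) * s = b by group] at h1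
    exact h.root_unique h1 hb hbC
  have hinj : Function.Injective σ := fun a b e => by rw [← hτσ a, e, hτσ]
  have hστ : ∀ k, σ (τ k) = k := fun k => by
    obtain ⟨-, b, hb, hbC, -⟩ := h.trans k k
    have h1 := hσ _ _ (hτ k b hb)
    rw [inv_inv, show s * (s⁻¹ * b * s) * s⁻¹ = b by group] at h1
    exact h.root_unique h1 hb hbC
  refine ⟨σ i, ?_, fun b hb hbC k' hk' => h.root_unique hk' (hσ i b hb) fun hc => hbC (by
    simpa [mul_assoc] using h.C_normal.conj_mem _ hc s⁻¹)⟩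
  have hmap : ∀ i, ∀ x ∈ P i, s * x * s⁻¹ ∈ P (σ i) := by
    intro i x hx
    have hxW : s * x * s⁻¹ ∈ W := h.W_normal.conj_mem x (h.P_le_W i hx) s
    obtain ⟨p, hp, e⟩ := h.exists_part hxW (σ i)
    set y := p⁻¹ * (s * x * s⁻¹) with hy
    have hyW : y ∈ W := mul_mem (inv_mem (h.P_le_W _ hp)) hxW
    have hyY : y ∈ Y := by
      refine h.Y_max y (h.W_le_C hyW) (h.W_sq y hyW) fun b hb => ?_
      have hR : ∀ k, R k ≤ centralizer ({y} : Set S) := by
        intro k b hb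
        refine mem_centralizer_singleton_iff.2 (commutatorElement_eq_one_iff_mul_comm.1 ?_).symm
        have h1 : ⁅s * x * s⁻¹, b⁆ = ⁅p, b⁆ := by
          by_cases e' : k = σ i
          · subst e'; exact e b hb
          · rw [((h.mem_R k b).1 hb).2 (σ i) (Ne.symm e') p hp]
            have h2 : s⁻¹ * b * s ∈ R (τ k) := by simpa using hτ k b hb
            have h3 := ((h.mem_R (τ k) _).1 h2).2 i (fun e'' => e' (by rw [e'', hστ])) x hx
            rw [commutatorElement_eq_one_iff_mul_comm] at h3 ⊢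
            calc s * x * s⁻¹ * b = s * (x * (s⁻¹ * b * s)) * s⁻¹ := by group
              _ = s * (s⁻¹ * b * s * x) * s⁻¹ := by rw [h3]
              _ = b * (s * x * s⁻¹) := by group
        rw [show s * x * s⁻¹ = p * y by rw [hy, mul_inv_cancel_left],
          h.mul_left (h.P_le_W _ hp) hyW (h.R_le_B k hb), mul_eq_left] at h1
        exact h1
      exact (mem_centralizer_singleton_iff.1 ((h.R_gen.trans (iSup_le hR)) hb)).symm
    have := mul_mem hp (h.Y_le_P (σ i) hyY)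
    rwa [hy, mul_inv_cancel_left] at this
  refine eq_of_le_of_card_ge ?_ ?_
  · rintro _ ⟨x, hx, rfl⟩; exact hmap i x hx
  · rw [card_map_of_injective (MulAut.conj s).injective]
    have hc : ∀ k, Nat.card ↥(P k) = Nat.card ↥Y * q := fun k => by
      rw [← h.P_index k, mul_comm, relIndex, ← Nat.card_congr (subgroupOfEquivOfLe (h.Y_le_P k)).toEquiv,
        index_mul_card]
    rw [hc, hc]

theorem conj_trans (i k : ι) : ∃ s, (P i).map (MulAut.conj s).toMonoidHom = P k := by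
  obtain ⟨s, b, hb, hbC, hsb⟩ := h.trans i k
  obtain ⟨k', hk', hk''⟩ := h.conj_P s i
  exact ⟨s, by rw [hk', hk'' b hb hbC k hsb]⟩

/-- Automorphisms of odd order map `W` into `C`. -/
theorem map_le (A : Subgroup (MulAut S)) (hA : Odd (Nat.card ↥A))
    (hB : ∀ a ∈ A, B.map a.toMonoidHom = B) (hY : ∀ a ∈ A, Y.map a.toMonoidHom = Y) :
    ∀ a ∈ A, W.map a.toMonoidHom ≤ C := by
  have hhalf : ∀ a ∈ A, ∀ k, Half Y B q ((P k).map a.toMonoidHom) := by
    intro a ha k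
    refine ⟨(map_mono ((h.P_le_W k).trans h.W_le_B)).trans (hB a ha).le,
      (hY a ha).ge.trans (map_mono (h.Y_le_P k)), ?_, ?_, ?_, ?_⟩
    · rintro _ ⟨x, hx, rfl⟩ _ ⟨y, hy, rfl⟩
      rw [← map_mul, ← map_mul, h.W_comm x (h.P_le_W k hx) y (h.P_le_W k hy)]
    · rintro _ ⟨x, hx, rfl⟩
      rw [← map_mul, h.W_sq x (h.P_le_W k hx), map_one]
    · conv_lhs => rw [← hY a ha]
      rw [relIndex_map_map_of_injective Y (P k) (show Function.Injective a.toMonoidHom from a.injective), h.P_index]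
    · rintro _ ⟨x, hx, rfl⟩
      let φ : ↥(R k) →* S := MonoidHom.mk' (fun u => ⁅x, (u : S)⁆) fun u w =>
        h.mul_right (h.P_le_W k hx) (h.R_le_B k u.2) (h.R_le_B k w.2)
      refine ⟨φ.range.map a.toMonoidHom, ?_, fun b hb => ?_⟩
      · rw [card_map_of_injective (show Function.Injective a.toMonoidHom from a.injective), ← index_ker]
        refine le_trans ?_ (h.R_index k)
        refine Nat.le_of_dvd (Nat.pos_of_ne_zero index_ne_zero_of_finite) (index_dvd_of_le fun u hu => ?_)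
        exact commutatorElement_eq_one_iff_mul_comm.2 (h.C_cent u hu x (h.P_le_W k hx)).symm
      · obtain ⟨b', hb', rfl⟩ := (hB a ha).ge hb
        obtain ⟨u, hu, e⟩ := h.exists_root hb' k
        rw [← map_commutatorElement]
        exact mem_map_of_mem _ ⟨⟨u, hu⟩, (e x hx).symm⟩
  have hconj : ∀ (a : MulAut S) (s : S) (X : Subgroup S),
      (X.map a.toMonoidHom).map (MulAut.conj s).toMonoidHom =
        (X.map (MulAut.conj (a.symm s)).toMonoidHom).map a.toMonoidHom := by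
    intro a s X
    rw [Subgroup.map_map, Subgroup.map_map]
    congr 1
    ext x
    simp
  intro a ha
  by_contra hno
  obtain ⟨k, hk⟩ : ∃ k, ¬ (P k).map a.toMonoidHom ≤ C := by
    by_contra hall
    push Not at hall
    refine hno ?_
    rcases isEmpty_or_nonempty ι with hι | ⟨⟨i₀⟩⟩
    · exact fun z hz => h.C_eq z ((hB a ha).le (map_mono h.W_le_B hz)) fun i => isEmptyElim i
    refine (map_mono h.W_gen).trans ?_
    rw [Subgroup.map_sup, Subgroup.map_iSup]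
    exact sup_le (iSup_le hall) ((hY a ha).le.trans ((h.Y_le_P i₀).trans ((h.P_le_W i₀).trans h.W_le_C)))
  obtain ⟨u, hu, huC⟩ := SetLike.not_le_iff_exists.1 hk
  obtain ⟨i, hni⟩ : ∃ i, NonComm ((P k).map a.toMonoidHom) (P i) := by
    by_contra hall
    refine huC (h.C_eq u ((hhalf a ha k).le_B hu) fun i x hx => commutatorElement_eq_one_iff_mul_comm.2 ?_)
    by_contra hne
    exact hall ⟨i, u, hu, x, hx, fun e => hne e.symm⟩
  -- every half has its opposite in the same class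
  have hpart : ∀ m, ∃ n, NonComm ((P n).map a.toMonoidHom) (P m) := by
    intro m
    obtain ⟨s, hs⟩ := h.conj_trans i m
    obtain ⟨n, hn, -⟩ := h.conj_P (a.symm s) k
    refine ⟨n, ?_⟩
    have h1 := hni.map (MulAut.conj s)
    rwa [hs, hconj, hn] at h1
  obtain ⟨n, hn⟩ := hpart k
  -- the square stabilises the class
  have h2 : NonComm ((P i).map a.symm.toMonoidHom) (P k) := by
    have h1 := (hni.map a.symm).symm
    rwa [Subgroup.map_map, show a.symm.toMonoidHom.comp a.toMonoidHom = MonoidHom.id S from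
      MonoidHom.ext fun x => a.symm_apply_apply x, Subgroup.map_id] at h1
  have h3 : (P n).map a.toMonoidHom = (P i).map a.symm.toMonoidHom :=
    h.unique (hhalf a ha n) (hhalf a.symm (A.inv_mem ha) i) hn h2
  have h4 : (P n).map (a * a : MulAut S).toMonoidHom = P i := by
    rw [show ((a * a : MulAut S) : S ≃* S).toMonoidHom = a.toMonoidHom.comp a.toMonoidHom from rfl,
      ← Subgroup.map_map, h3, Subgroup.map_map, show a.toMonoidHom.comp a.symm.toMonoidHom = MonoidHom.id S from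
        MonoidHom.ext fun x => a.apply_symm_apply x, Subgroup.map_id]
  have hsq : ∀ j : ℕ, ∀ l, ∃ l', (P l).map ((a * a) ^ j : MulAut S).toMonoidHom = P l' := by
    intro j
    induction j with
    | zero => intro l; exact ⟨l, by rw [pow_zero]; exact Subgroup.map_id _⟩
    | succ j ih =>
      intro l
      obtain ⟨s, hs⟩ := h.conj_trans n l
      obtain ⟨l₁, hl₁, -⟩ := h.conj_P ((a * a : MulAut S) s) i
      have h5 : (P l).map (a * a : MulAut S).toMonoidHom = P l₁ := by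
        have h6 := hconj (a * a) ((a * a : MulAut S) s) (P n)
        rw [h4, MulEquiv.symm_apply_apply, hl₁, hs] at h6
        exact h6.symm
      obtain ⟨l', hl'⟩ := ih l₁
      refine ⟨l', ?_⟩
      rw [pow_succ, show ((((a * a) ^ j * (a * a) : MulAut S)) : S ≃* S).toMonoidHom =
        ((a * a) ^ j : MulAut S).toMonoidHom.comp (a * a : MulAut S).toMonoidHom from rfl, ← Subgroup.map_map, h5, hl']
  obtain ⟨m, hm⟩ := hA
  have hord : a ^ (2 * m + 1) = 1 := by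
    have := pow_card_eq_one' (G := ↥A) (x := ⟨a, ha⟩)
    rw [hm] at this
    simpa using congrArg Subtype.val this
  obtain ⟨l', hl'⟩ := hsq (m + 1) k
  rw [← pow_two, ← pow_mul, show 2 * (m + 1) = (2 * m + 1) + 1 by ring, pow_succ, hord, one_mul] at hl'
  obtain ⟨x, hx, y, hy, hne⟩ := hni
  rw [hl'] at hx
  exact hne (h.W_comm x (h.P_le_W l' hx) y (h.P_le_W i hy))

end Halves

end Cfsg.Agent.FFPush
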