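import Cfsg.Agent.Lib.FFPush.SymFrame
import Cfsg.Agent.Lib.FFPush.SymPoints

/-!
The pairs in the natural modules.

* `PairModel` : what is used about the root groups and the halves in one component
* `lin_pairs`, `sym_pairs` : the two natural modules in characteristic two
-/

set_option autoImplicit false

namespace Cfsg.Agent.FFPush

open Equiv
open scoped MatrixGroups
open OffenderSL2 (fixS)
open FFMinimal (Elem mulv_up)

/-- The pairs of one component. -/
structure PairModel {W S : Type} [Group W] [AddCommGroup S] (act : W →* AddMonoid.End S) (p : ℕ)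
    (K : Subgroup W) {κ : Type} (R : κ → Subgroup W) (Pm : κ → AddSubgroup S) (q : ℕ) : Prop where
  one_lt : 1 < q
  nonempty : Nonempty κ
  gen : K ≤ ⨆ l, R l
  R_le : ∀ l, R l ≤ K
  R_card : ∀ l, Nat.card ↥(R l) ≤ q
  R_ne : ∀ l, ∃ g ∈ R l, g ≠ 1
  fix_le : ∀ l, fixS act K ≤ Pm l
  P_gen : (⨆ l, Pm l) ⊔ fixS act K = ⊤
  P_card : ∀ l, Nat.card ↥(Pm l) = q * Nat.card ↥(fixS act K)
  quad : ∀ g ∈ K, ∀ z, z - act g z ∈ fixS act K
  mem_R : ∀ l, ∀ g ∈ K, (∀ m, m ≠ l → ∀ z ∈ Pm m, act g z = z) → g ∈ R l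
  faith : ∀ g, (∀ z, act g z = z) → g = 1
  sharp : ∀ l, ∀ g ∈ R l, g ≠ 1 → ∀ z ∈ Pm l, act g z = z → z ∈ fixS act K
  indep : ∀ l m, l ≠ m → ∀ g ∈ R l, ∀ g' ∈ R m, ∀ z z' : S, z - act g z = z' - act g' z' → z - act g z = 0
  split_comm : ∀ l m, l ≠ m → ∀ z ∈ Pm m, ∃ (u : S) (g : W), (∀ d ∈ R l, d * g = g * d ∧ act d u = u) ∧
    z - (u - act g u) ∈ fixS act K
  nofix : ∀ z, (∀ g, act g z = z) → z = 0
  bound : ∀ L : Subgroup W, L ≤ K → Elem p L → Nat.card ↥L * Nat.card ↥(fixS act L) ≤ Nat.card S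
  full : ∀ L : Subgroup W, L ≤ K → Elem p L → Nat.card ↥L * Nat.card ↥(fixS act L) = Nat.card S →
    ∀ l, (∃ g ∈ L, ∃ z ∈ Pm l, act g z ≠ z) → R l ≤ L
  small : ∀ l, ∀ g ∈ R l, Nat.card S ≤ q * Nat.card {z : S // act g z = z}
  pure : ∀ g ∈ K, g ≠ 1 → Nat.card S ≤ q * Nat.card {z : S // act g z = z} → ∃ m, g ∈ R m

section Lin

variable {F : Type} [Field F] [Fintype F]

theorem card_upper_fix :
    Nat.card ↥(fixS (linAct F) (Cfsg.upperUnipotentSL2 F)) = Nat.card F :=
  Nat.card_congr
    { toFun := fun z => z.1.1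
      invFun := fun x => ⟨(x, 0), upper_fix.2 rfl⟩
      left_inv := fun z => Subtype.ext (Prod.ext rfl (upper_fix.1 z.2).symm)
      right_inv := fun _ => rfl }

/-- The pair of the natural module of `SL₂(F)`. -/
theorem lin_pairs {p : ℕ} :
    PairModel (linAct F) p (Cfsg.upperUnipotentSL2 F) (fun _ : Unit => Cfsg.upperUnipotentSL2 F)
      (fun _ => ⊤) (Nat.card F) where
  one_lt := by rw [Nat.card_eq_fintype_card]; exact Fintype.one_lt_card
  nonempty := ⟨()⟩
  gen := le_iSup (fun _ : Unit => Cfsg.upperUnipotentSL2 F) ()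
  R_le _ := le_rfl
  R_card _ := card_upper.le
  R_ne _ := ⟨RankOne.upSL 1, RankOne.upSL_mem 1, fun e => one_ne_zero (RankOne.upSL_eq_one_iff.1 e)⟩
  fix_le _ := le_top
  P_gen := top_le_iff.1 (le_sup_of_le_left (le_iSup (fun _ : Unit => (⊤ : AddSubgroup (F × F))) ()))
  P_card _ := by rw [card_upper_fix, AddSubgroup.card_top, Nat.card_prod]
  quad g hg z := upper_fix.2 (by
    obtain ⟨t, rfl⟩ := RankOne.mem_upperUnipotentSL2.1 hg
    rw [linAct_apply, mulv_up, Prod.snd_sub, sub_self])
  mem_R _ g hg _ := hg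
  faith _ := linAct_faith
  sharp _ g hg hg1 z _ hz := upper_fix.2 (by
    obtain ⟨t, rfl⟩ := RankOne.mem_upperUnipotentSL2.1 hg
    rw [linAct_apply, mulv_up, Prod.ext_iff] at hz
    have ht : t ≠ 0 := fun e => hg1 (RankOne.upSL_eq_one_iff.2 e)
    simpa [ht] using hz.1)
  indep l m h := absurd (Subsingleton.elim l m) h
  split_comm l m h := absurd (Subsingleton.elim l m) h
  nofix z hz := by
    have h1 := hz (RankOne.upSL 1)
    have h2 := hz (RankOne.loSL 1)
    rw [linAct_apply, mulv_up, Prod.ext_iff] at h1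
    rw [linAct_apply, FFMinimal.mulv_lo, Prod.ext_iff] at h2
    simp at h1 h2
    exact Prod.ext h2 h1
  bound L hL _ := (upper_bound L hL).1
  full L hL _ he _ := by
    rintro ⟨g, hg, z, -, hz⟩
    refine (((upper_bound L hL).2 he).resolve_left fun hb => hz ?_).ge
    rw [Subgroup.mem_bot.1 (hb.le hg), map_one]; rfl
  small _ g hg := by
    rw [Nat.card_prod, ← card_upper_fix (F := F)]
    exact Nat.mul_le_mul le_rfl (Nat.card_le_card_of_injective
      (fun z : ↥(fixS (linAct F) (Cfsg.upperUnipotentSL2 F)) =>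
        (⟨z.1, z.2 g hg⟩ : {z : F × F // linAct F g z = z}))
      fun a b e => Subtype.ext (congrArg (fun z : {z : F × F // linAct F g z = z} => z.1) e))
  pure g hg _ _ := ⟨(), hg⟩

end Lin

section Sym

variable {k : ℕ}

local notation "ν" => pairing (2 * k + 1)

/-- The odd point of a pair. -/
def pairPt (l : Fin k) : Fin (2 * k + 1) := ⟨2 * l.val + 1, by omega⟩

theorem pairPt_val (l : Fin k) : (pairPt l).val = 2 * l.val + 1 := rfl

theorem pairPt_nu_val (l : Fin k) : (ν (pairPt l)).val = 2 * l.val + 2 := by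
  show (pairFun _ (pairPt l)).val = _
  rw [pairFun_val, pairPt_val]
  split_ifs <;> omega

theorem pairPt_ne_zero (l : Fin k) : pairPt l ≠ 0 := fun e => by
  have := congrArg Fin.val e
  simp [pairPt_val] at this

theorem nu_pairPt_ne (l : Fin k) : ν (pairPt l) ≠ pairPt l := nu_ne (pairPt_ne_zero l)

theorem pairPt_cases {x : Fin (2 * k + 1)} (hx : x ≠ 0) : ∃ l, x = pairPt l ∨ x = ν (pairPt l) := by
  have h0 : x.val ≠ 0 := fun e => hx (Fin.ext e)
  have := x.isLt
  refine ⟨⟨(x.val - 1) / 2, by omega⟩, ?_⟩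
  rcases Nat.mod_two_eq_zero_or_one x.val with e | e
  · right; refine Fin.ext ?_; rw [pairPt_nu_val]; show x.val = 2 * ((x.val - 1) / 2) + 2; omega
  · left; refine Fin.ext ?_; rw [pairPt_val]; show x.val = 2 * ((x.val - 1) / 2) + 1; omega

theorem pairPt_disj {l m : Fin k} (h : l ≠ m) :
    pairPt l ≠ pairPt m ∧ pairPt l ≠ ν (pairPt m) ∧ ν (pairPt l) ≠ pairPt m ∧ ν (pairPt l) ≠ ν (pairPt m) := by
  have hlm : l.val ≠ m.val := fun e => h (Fin.ext e)
  refine ⟨?_, ?_, ?_, ?_⟩ <;> intro e <;> have e' := congrArg Fin.val e <;>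
    simp only [pairPt_val, pairPt_nu_val] at e' <;> omega

theorem pairGrp_fix_zero {g : Perm (Fin (2 * k + 1))} (hg : g ∈ pairGrp (2 * k + 1)) : g 0 = 0 := by
  rcases hg 0 with e | e
  · exact e
  · rw [e, nu_zero]

/-- An element of the pairs fixing a point fixes its partner. -/
theorem pairGrp_fix_partner {g : Perm (Fin (2 * k + 1))} (hg : g ∈ pairGrp (2 * k + 1))
    {x : Fin (2 * k + 1)} (hx : g x = x) : g (ν x) = ν x := by
  rcases hg (ν x) with e | e
  · exact e
  · rw [pairing_self] at e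
    exact (g.injective (e.trans hx.symm)).symm ▸ hx

/-- The permutations of one pair. -/
def pairRoot (l : Fin k) : Subgroup (Perm (Fin (2 * k + 1))) where
  carrier := {g | g ∈ pairGrp (2 * k + 1) ∧ ∀ x, x ≠ pairPt l → x ≠ ν (pairPt l) → g x = x}
  one_mem' := ⟨one_mem _, fun _ _ _ => rfl⟩
  mul_mem' := fun {a b} ha hb => ⟨mul_mem ha.1 hb.1, fun x h1 h2 => by
    rw [Perm.mul_apply, hb.2 x h1 h2, ha.2 x h1 h2]⟩
  inv_mem' := fun {a} ha => ⟨inv_mem ha.1, fun x h1 h2 => by
    rw [Perm.inv_def, Equiv.symm_apply_eq, ha.2 x h1 h2]⟩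

theorem swap_mem_pairRoot (l : Fin k) : swap (pairPt l) (ν (pairPt l)) ∈ pairRoot l :=
  ⟨swap_mem_pairGrp _ _, fun _ h1 h2 => swap_apply_of_ne_of_ne h1 h2⟩

theorem pairRoot_eq {l : Fin k} {g : Perm (Fin (2 * k + 1))} (hg : g ∈ pairRoot l) :
    g = 1 ∨ g = swap (pairPt l) (ν (pairPt l)) := by
  rcases hg.1 (pairPt l) with e | e
  · left
    refine Equiv.ext fun x => ?_
    by_cases h1 : x = pairPt l
    · rw [h1, e]; rfl
    by_cases h2 : x = ν (pairPt l)
    · rw [h2, pairGrp_fix_partner hg.1 e]; rfl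
    exact hg.2 x h1 h2
  · right
    refine Equiv.ext fun x => ?_
    by_cases h1 : x = pairPt l
    · rw [h1, e, swap_apply_left]
    by_cases h2 : x = ν (pairPt l)
    · rw [h2, swap_apply_right]
      rcases hg.1 (ν (pairPt l)) with e' | e'
      · exact absurd (g.injective (e'.trans e.symm)) (nu_pairPt_ne l)
      · rw [e', pairing_self]
    rw [hg.2 x h1 h2, swap_apply_of_ne_of_ne h1 h2]

/-- The difference of the coordinates in a pair. -/
def pairDiff (l : Fin k) : ↥(evenW (2 * k + 1)) →+ ZMod 2 :=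
  AddMonoidHom.mk' (fun v => (v : Fin (2 * k + 1) → ZMod 2) (pairPt l) + (v : Fin (2 * k + 1) → ZMod 2) (ν (pairPt l)))
    fun v w => by
      show (v : Fin (2 * k + 1) → ZMod 2) _ + (w : Fin (2 * k + 1) → ZMod 2) _ +
        ((v : Fin (2 * k + 1) → ZMod 2) _ + (w : Fin (2 * k + 1) → ZMod 2) _) = _
      abel

theorem pairDiff_apply (l : Fin k) (v : ↥(evenW (2 * k + 1))) :
    pairDiff l v = (v : Fin (2 * k + 1) → ZMod 2) (pairPt l) + (v : Fin (2 * k + 1) → ZMod 2) (ν (pairPt l)) := rfl

theorem zmod_two_eq : ∀ a b : ZMod 2, a + b = 0 ↔ b = a := by decide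

theorem zmod_two_cases : ∀ a : ZMod 2, a = 0 ∨ a = 1 := by decide

theorem mem_fix_diff {v : ↥(evenW (2 * k + 1))} :
    v ∈ fixS (permAct (2 * k + 1)) (pairGrp (2 * k + 1)) ↔ ∀ l, pairDiff l v = 0 := by
  rw [pairGrp_fix]
  refine ⟨fun h l => (zmod_two_eq _ _).2 (h _), fun h x => ?_⟩
  by_cases hx : x = 0
  · rw [hx, nu_zero]
  obtain ⟨l, e | e⟩ := pairPt_cases hx <;> rw [e]
  · exact (zmod_two_eq _ _).1 (h l)
  · rw [pairing_self]; exact ((zmod_two_eq _ _).1 (h l)).symm

/-- The vector of a pair. -/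
def pairUnit (l : Fin k) : ↥(evenW (2 * k + 1)) :=
  ⟨Baumann.pairVec (pairPt l) 0, Baumann.sum_pairVec _ _⟩

theorem pairDiff_unit (l m : Fin k) : pairDiff m (pairUnit l) = if m = l then 1 else 0 := by
  show Baumann.pairVec (pairPt l) 0 (pairPt m) + Baumann.pairVec (pairPt l) 0 (ν (pairPt m)) = _
  simp only [Baumann.pairVec, Pi.add_apply, Pi.single_apply, pairPt_ne_zero,
    nu_ne_zero (pairPt_ne_zero m), if_false, add_zero]
  by_cases e : m = l
  · subst e
    rw [if_pos rfl, if_pos rfl, if_neg (nu_pairPt_ne m), add_zero]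
  · rw [if_neg e, if_neg (pairPt_disj e).1, if_neg (pairPt_disj e).2.2.1, add_zero]

/-- The half at a pair. -/
def pairHalf (l : Fin k) : AddSubgroup ↥(evenW (2 * k + 1)) :=
  ⨅ (m : Fin k) (_ : m ≠ l), (pairDiff m).ker

theorem mem_pairHalf {l : Fin k} {v : ↥(evenW (2 * k + 1))} : v ∈ pairHalf l ↔ ∀ m, m ≠ l → pairDiff m v = 0 := by
  simp [pairHalf, AddSubgroup.mem_iInf, AddMonoidHom.mem_ker]

theorem act_eq_of {g : Perm (Fin (2 * k + 1))} (hg : g ∈ pairGrp (2 * k + 1)) {v : ↥(evenW (2 * k + 1))}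
    (h : ∀ l, g (pairPt l) ≠ pairPt l → pairDiff l v = 0) : permAct (2 * k + 1) g v = v := by
  refine Subtype.ext (funext fun x => ?_)
  rw [permAct_apply]
  rcases (pairGrp _).inv_mem hg x with e | e
  · rw [e]
  rw [e]
  by_cases hx : x = 0
  · rw [hx, nu_zero]
  have hgx : g (ν x) = x := by
    rw [← e, Perm.inv_def, Equiv.apply_symm_apply]
  obtain ⟨l, e' | e'⟩ := pairPt_cases hx
  · subst e'
    refine (zmod_two_eq _ _).1 (h l fun hfix => nu_pairPt_ne l ?_)
    exact g.injective (hgx.trans hfix.symm)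
  · subst e'
    rw [pairing_self] at hgx ⊢
    refine ((zmod_two_eq _ _).1 (h l fun hfix => nu_pairPt_ne l ?_)).symm
    exact hgx.symm.trans hfix

theorem act_fix {g : Perm (Fin (2 * k + 1))} (hg : g ∈ pairGrp (2 * k + 1)) {v : ↥(evenW (2 * k + 1))}
    (h : permAct (2 * k + 1) g v = v) {l : Fin k} (hl : g (pairPt l) ≠ pairPt l) : pairDiff l v = 0 := by
  refine (zmod_two_eq _ _).2 ?_
  have e : g⁻¹ (pairPt l) = ν (pairPt l) := by
    rcases (pairGrp _).inv_mem hg (pairPt l) with e | e
    · exact absurd (by conv_lhs => rw [← e, Perm.inv_def, Equiv.apply_symm_apply]) hl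
    · exact e
  have h1 := congrArg (fun w : ↥(evenW (2 * k + 1)) => (w : Fin (2 * k + 1) → ZMod 2) (pairPt l)) h
  simp only [permAct_apply, e] at h1
  exact h1

theorem sym_pairs (hk : 1 ≤ k) :
    PairModel (permAct (2 * k + 1)) 2 (pairGrp (2 * k + 1)) (pairRoot (k := k)) (pairHalf (k := k)) 2 where
  one_lt := Nat.one_lt_two
  nonempty := ⟨⟨0, hk⟩⟩
  gen := pairGrp_le fun x => by
    by_cases hx : x = 0
    · rw [hx, nu_zero, swap_self]; exact one_mem _
    obtain ⟨l, e | e⟩ := pairPt_cases hx <;> rw [e]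
    · exact Subgroup.mem_iSup_of_mem l (swap_mem_pairRoot l)
    · rw [pairing_self, swap_comm]
      exact Subgroup.mem_iSup_of_mem l (swap_mem_pairRoot l)
  R_le l g hg := hg.1
  R_card l := by
    refine le_trans (Nat.card_le_card_of_injective
      (fun g : ↥(pairRoot l) => decide ((g : Perm (Fin (2 * k + 1))) (pairPt l) = pairPt l)) fun a b e => ?_)
      (le_of_eq (Nat.card_eq_fintype_card.trans Fintype.card_bool))
    have hne := nu_pairPt_ne l
    refine Subtype.ext ?_
    rcases pairRoot_eq a.2 with ha | ha <;> rcases pairRoot_eq b.2 with hb | hb <;>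
      simp [ha, hb, hne] at e ⊢
  R_ne l := ⟨_, swap_mem_pairRoot l, fun e => nu_pairPt_ne l (by
    have := congrArg (fun g : Perm (Fin (2 * k + 1)) => g (pairPt l)) e
    simpa using this)⟩
  fix_le l v hv := mem_pairHalf.2 fun m _ => mem_fix_diff.1 hv m
  P_gen := by
    refine top_le_iff.1 fun v _ => ?_
    set w := ∑ l, if pairDiff l v = 0 then 0 else pairUnit l
    have hw : w ∈ ⨆ l, pairHalf (k := k) l := sum_mem fun l _ => by
      split_ifs
      · exact zero_mem _
      · exact AddSubgroup.mem_iSup_of_mem l (mem_pairHalf.2 fun m hm => by rw [pairDiff_unit, if_neg hm])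
    refine AddSubgroup.mem_sup.2 ⟨w, hw, v - w, mem_fix_diff.2 fun m => ?_, add_sub_cancel w v⟩
    rw [map_sub, map_sum, Finset.sum_eq_single m (fun l _ hlm => ?_) (fun h => absurd (Finset.mem_univ m) h)]
    · split_ifs with h
      · rw [map_zero, sub_zero, h]
      · rw [pairDiff_unit, if_pos rfl, (zmod_two_cases _).resolve_left h, sub_self]
    · split_ifs
      · exact map_zero _
      · rw [pairDiff_unit, if_neg (Ne.symm hlm)]
  P_card l := by
    let f : ↥(pairHalf (k := k) l) →+ ZMod 2 := (pairDiff l).comp (AddSubgroup.subtype _)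
    have hf : Function.Surjective f := fun a => by
      rcases zmod_two_cases a with rfl | rfl
      · exact ⟨0, map_zero _⟩
      · exact ⟨⟨pairUnit l, mem_pairHalf.2 fun m hm => by rw [pairDiff_unit, if_neg hm]⟩,
          by show pairDiff l (pairUnit l) = 1; rw [pairDiff_unit, if_pos rfl]⟩
    have e : Nat.card ↥f.ker = Nat.card ↥(fixS (permAct (2 * k + 1)) (pairGrp (2 * k + 1))) := Nat.card_congr
      { toFun := fun x => ⟨x.1.1, mem_fix_diff.2 fun m => by
          by_cases h : m = l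
          · subst h; exact x.2
          · exact mem_pairHalf.1 x.1.2 m h⟩
        invFun := fun x => ⟨⟨x.1, mem_pairHalf.2 fun m _ => mem_fix_diff.1 x.2 m⟩, mem_fix_diff.1 x.2 l⟩
        left_inv := fun _ => rfl
        right_inv := fun _ => rfl }
    rw [AddSubgroup.card_eq_card_quotient_mul_card_addSubgroup f.ker,
      Nat.card_congr (QuotientAddGroup.quotientKerEquivOfSurjective f hf).toEquiv, Nat.card_zmod, e]
  quad g hg z := mem_fix_diff.2 fun l => by
    rw [map_sub, sub_eq_zero, pairDiff_apply, pairDiff_apply, permAct_apply, permAct_apply]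
    rcases (pairGrp _).inv_mem hg (pairPt l) with e | e
    · rw [e, pairGrp_fix_partner ((pairGrp _).inv_mem hg) e]
    · rw [e]
      rcases (pairGrp _).inv_mem hg (ν (pairPt l)) with e' | e'
      · exact absurd (g⁻¹.injective (e'.trans e.symm)) (nu_pairPt_ne l)
      · rw [e', pairing_self, add_comm]
  mem_R l g hg h := ⟨hg, fun x h1 h2 => by
    by_cases hx : x = 0
    · rw [hx, pairGrp_fix_zero hg]
    obtain ⟨m, e⟩ := pairPt_cases hx
    have hm : m ≠ l := by
      rintro rfl
      rcases e with e | e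
      · exact h1 e
      · exact h2 e
    have hfix : g (pairPt m) = pairPt m := by
      by_contra hmv
      have h3 := act_fix hg (h m hm (pairUnit m) (mem_pairHalf.2 fun m' hm' => by
        rw [pairDiff_unit, if_neg hm'])) hmv
      rw [pairDiff_unit, if_pos rfl] at h3
      exact one_ne_zero h3
    rcases e with e | e <;> rw [e]
    · exact hfix
    · exact pairGrp_fix_partner hg hfix⟩
  faith g := permAct_faith (by omega)
  sharp l g hg hg1 z hz he := mem_fix_diff.2 fun m => by
    by_cases hm : m = l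
    · subst hm
      refine act_fix hg.1 he fun hfix => hg1 ?_
      rcases pairRoot_eq hg with e | e
      · exact e
      · rw [e, swap_apply_left] at hfix
        exact absurd hfix (nu_pairPt_ne m)
    · exact mem_pairHalf.1 hz m hm
  indep l m hlm g hg g' hg' z z' e := by
    refine Subtype.ext (funext fun x => ?_)
    by_cases hx : x = pairPt l ∨ x = ν (pairPt l)
    · have hx' : x ≠ pairPt m ∧ x ≠ ν (pairPt m) := by
        rcases hx with rfl | rfl
        · exact ⟨(pairPt_disj hlm).1, (pairPt_disj hlm).2.1⟩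
        · exact ⟨(pairPt_disj hlm).2.2.1, (pairPt_disj hlm).2.2.2⟩
      rw [e]
      show (z' : Fin (2 * k + 1) → ZMod 2) x - (z' : Fin (2 * k + 1) → ZMod 2) (g'⁻¹ x) = 0
      rw [((pairRoot m).inv_mem hg').2 x hx'.1 hx'.2, sub_self]
    · push Not at hx
      show (z : Fin (2 * k + 1) → ZMod 2) x - (z : Fin (2 * k + 1) → ZMod 2) (g⁻¹ x) = 0
      rw [((pairRoot l).inv_mem hg).2 x hx.1 hx.2, sub_self]
  split_comm l m hlm z hz := by
    let u₀ : ↥(evenW (2 * k + 1)) :=
      ⟨Baumann.pairVec (pairPt m) (ν (pairPt m)), Baumann.sum_pairVec _ _⟩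
    refine ⟨if pairDiff m z = 0 then 0 else u₀, swap 0 (pairPt m), fun d hd => ⟨?_, ?_⟩, ?_⟩
    · rw [← mul_inv_eq_iff_eq_mul, ← swap_apply_apply, pairGrp_fix_zero hd.1,
        hd.2 _ (pairPt_disj (Ne.symm hlm)).1 (pairPt_disj (Ne.symm hlm)).2.1]
    · split_ifs
      · exact map_zero _
      refine Subtype.ext (funext fun x => ?_)
      rw [permAct_apply]
      have hd' := (pairRoot l).inv_mem hd
      by_cases hx : x = pairPt l ∨ x = ν (pairPt l)
      · have h1 : ∀ y, y = pairPt l ∨ y = ν (pairPt l) → (u₀ : Fin (2 * k + 1) → ZMod 2) y = 0 := by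
          rintro y (rfl | rfl)
          · simp [u₀, Baumann.pairVec, (pairPt_disj hlm).1, (pairPt_disj hlm).2.1]
          · simp [u₀, Baumann.pairVec, (pairPt_disj hlm).2.2.1, (pairPt_disj hlm).2.2.2]
        rw [h1 x hx, h1 (d⁻¹ x) ?_]
        rcases pairRoot_eq hd' with e | e <;> rw [e]
        · exact hx
        · rcases hx with rfl | rfl
          · exact Or.inr (swap_apply_left _ _)
          · exact Or.inl (swap_apply_right _ _)
      · push Not at hx
        rw [hd'.2 x hx.1 hx.2]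
    · refine mem_fix_diff.2 fun j => ?_
      have hdiff : ∀ j, pairDiff j (u₀ - permAct (2 * k + 1) (swap 0 (pairPt m)) u₀) =
          if j = m then 1 else 0 := fun j => by
        rw [← pairDiff_unit m j]
        congr 1
        refine Subtype.ext (funext fun x => ?_)
        show (u₀ : Fin (2 * k + 1) → ZMod 2) x - (u₀ : Fin (2 * k + 1) → ZMod 2) ((swap 0 (pairPt m))⁻¹ x) =
          Baumann.pairVec (pairPt m) 0 x
        rw [swap_inv]
        have h0 := Ne.symm (pairPt_ne_zero m)
        have h1 := nu_pairPt_ne m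
        have h2 := nu_ne_zero (pairPt_ne_zero m)
        by_cases e0 : x = 0
        · subst e0
          simp [u₀, Baumann.pairVec, h0, h1.symm, h2.symm]
        by_cases e1 : x = pairPt m
        · subst e1
          simp [u₀, Baumann.pairVec, h0, h1.symm, h2.symm, Ne.symm h0]
        · simp [u₀, Baumann.pairVec, swap_apply_of_ne_of_ne e0 e1, e0, e1]
      rw [map_sub]
      by_cases hm0 : pairDiff m z = 0
      · rw [if_pos hm0, map_zero, sub_self, map_zero, sub_zero]
        by_cases e : j = m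
        · rw [e, hm0]
        · exact mem_pairHalf.1 hz j e
      · rw [if_neg hm0, hdiff]
        by_cases e : j = m
        · rw [e, if_pos rfl, (zmod_two_cases _).resolve_left hm0, sub_self]
        · rw [if_neg e, mem_pairHalf.1 hz j e, sub_zero]
  nofix z hz := fix_alt fun a _ => hz _
  bound L hL hel := by
    rw [card_evenW]
    exact (sym_count L hel.comm fun g hg => pairGrp_fix_zero (hL hg)).1
  full L hL hel he l := by
    rintro ⟨g, hg, z, hz, hne⟩ d hd
    rw [card_evenW] at he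
    have hmv : g (pairPt l) ≠ pairPt l := fun hfix => hne (act_eq_of (hL hg) fun m hm => by
      refine mem_pairHalf.1 hz m fun e => hm ?_
      rw [e]; exact hfix)
    have h1 := ((sym_count L hel.comm fun g hg => pairGrp_fix_zero (hL hg)).2 he g hg (pairPt l)).2 hmv
    rw [(hL hg (pairPt l)).resolve_left hmv] at h1
    rcases pairRoot_eq hd with e | e <;> rw [e]
    · exact one_mem _
    · exact h1
  small l g hg := by
    have h1 := card_le_mul_ker (pairDiff l) {z | permAct (2 * k + 1) g z = z} fun z hz =>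
      act_eq_of hg.1 fun m hm => by
        by_cases e : m = l
        · exact e ▸ hz
        · exact absurd (hg.2 _ (pairPt_disj e).1 (pairPt_disj e).2.1) hm
    rwa [Nat.card_zmod] at h1
  pure g hg hg1 hsm := by
    obtain ⟨l, hl⟩ : ∃ l, g (pairPt l) ≠ pairPt l := by
      by_contra hno
      push Not at hno
      refine hg1 (Equiv.ext fun x => ?_)
      by_cases hx : x = 0
      · rw [hx, pairGrp_fix_zero hg]; rfl
      obtain ⟨l, e | e⟩ := pairPt_cases hx <;> rw [e]
      · exact hno l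
      · exact pairGrp_fix_partner hg (hno l)
    refine ⟨l, hg, fun x h1 h2 => ?_⟩
    by_cases hx : x = 0
    · rw [hx, pairGrp_fix_zero hg]
    obtain ⟨m, e⟩ := pairPt_cases hx
    have hm : m ≠ l := by
      rintro rfl
      rcases e with e | e
      · exact h1 e
      · exact h2 e
    have hfix : g (pairPt m) = pairPt m := by
      by_contra hmv
      have hsurj : Function.Surjective ((pairDiff l).prod (pairDiff m)) := fun ⟨a, b⟩ =>
        ⟨(if a = 0 then 0 else pairUnit l) + (if b = 0 then 0 else pairUnit m), by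
          rcases zmod_two_cases a with rfl | rfl <;> rcases zmod_two_cases b with rfl | rfl <;>
            simp [pairDiff_unit, hm, Ne.symm hm, Prod.ext_iff]⟩
      have h3 := AddSubgroup.card_eq_card_quotient_mul_card_addSubgroup ((pairDiff l).prod (pairDiff m)).ker
      rw [Nat.card_congr (QuotientAddGroup.quotientKerEquivOfSurjective _ hsurj).toEquiv, Nat.card_prod,
        Nat.card_zmod] at h3
      have h4 : Nat.card {z : ↥(evenW (2 * k + 1)) // permAct (2 * k + 1) g z = z} ≤
          Nat.card ↥((pairDiff l).prod (pairDiff m)).ker :=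
        Nat.card_le_card_of_injective
          (fun z => ⟨z.1, Prod.ext (act_fix hg z.2 hl) (act_fix hg z.2 hmv)⟩)
          fun a b e => Subtype.ext (congrArg (fun w : ↥((pairDiff l).prod (pairDiff m)).ker => w.1) e)
      have h5 : 0 < Nat.card {z : ↥(evenW (2 * k + 1)) // permAct (2 * k + 1) g z = z} :=
        Nat.card_pos_iff.2 ⟨⟨⟨0, map_zero _⟩⟩, inferInstance⟩
      omega
    rcases e with e | e <;> rw [e]
    · exact hfix
    · exact pairGrp_fix_partner hg hfix
where
  card_le_mul_ker {A : Type} [AddCommGroup A] [Finite A] {B : Type} [AddCommGroup B] [Finite B] (f : A →+ B)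
      (s : Set A) (h : ∀ z, f z = 0 → z ∈ s) : Nat.card A ≤ Nat.card B * Nat.card ↥s := by
    rw [AddSubgroup.card_eq_card_quotient_mul_card_addSubgroup f.ker,
      Nat.card_congr (QuotientAddGroup.quotientKerEquivRange f).toEquiv]
    exact Nat.mul_le_mul (Nat.card_le_card_of_injective _ Subtype.val_injective)
      (Nat.card_le_card_of_injective (fun z : ↥f.ker => (⟨z.1, h z.1 z.2⟩ : ↥s))
        fun a b e => Subtype.ext (congrArg (fun w : ↥s => w.1) e))

end Sym

end Cfsg.Agent.FFPush
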