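import Cfsg.Agent.Lib.FFPush.Global
import Cfsg.Agent.Lib.FFPush.Halves
import Cfsg.Agent.Lib.FFPush.HalvesModel

/-!
The halves in the Sylow subgroup of a frame, in characteristic two.

* `Cover.exists_pivot` : an element of the product of the members opposite to `T` that fixes `Q_B` modulo `Y V`
* `Cover.exists_halves` : the halves
-/

set_option autoImplicit false

namespace Cfsg.Agent.FFPush

open Subgroup
open scoped commutatorElement IsMulCommutative
open OffenderSL2 (fixS cj app_mul app_one apply_mem_fix_cj mem_fix_cj mem_cj)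
open FFMinimal (comS wt Elem zAct gval gmk gval_mem gval_gmk gval_injective gval_add gval_neg gval_zero)
open PLocal (maxIn elemAb)

universe u

variable {G : Type u} [Group G]

/-- The group of a subgroup of the module. -/
def gSub {V : Subgroup G} [IsMulCommutative ↥V] (X : AddSubgroup (Additive ↥V)) : Subgroup G where
  carrier := {x | ∃ v ∈ X, gval v = x}
  one_mem' := ⟨0, zero_mem _, gval_zero⟩
  mul_mem' := by
    rintro _ _ ⟨a, ha, rfl⟩ ⟨b, hb, rfl⟩
    exact ⟨a + b, add_mem ha hb, gval_add a b⟩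
  inv_mem' := by
    rintro _ ⟨a, ha, rfl⟩
    exact ⟨-a, neg_mem ha, gval_neg a⟩

variable [Finite G] [Fact (Nat.Prime 2)] {T : Sylow 2 G} {M V : Subgroup G} [V.Normal] [IsMulCommutative ↥V]
  {r : ℕ} {E : Fin r → Subgroup (G ⧸ centralizer (V : Set G))} {g : G} {K : Fin r → Subgroup G}

local notation "𝐦" => QuotientGroup.mk' (centralizer (V : Set G))
local notation "𝐁" => Cfsg.baumannSubgroupOf 2 (T : Subgroup G)
local notation "𝐉" => Cfsg.thompsonSubgroupOf 2 (T : Subgroup G)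
local notation "𝐘" => Y 2 (T : Subgroup G)
local notation "𝐐𝐁" => QB 2 (T : Subgroup G)

omit [Finite G] [Fact (Nat.Prime 2)] in
theorem commutator_mul_central {x c w w' : G} (h1 : w * (c * w') = c * w' * w) (h2 : w' * x = x * w') :
    ⁅x * w, c * w'⁆ = ⁅x, c⁆ := by
  have h3 : w' * x⁻¹ = x⁻¹ * w' := (show Commute w' x from h2).inv_right
  calc ⁅x * w, c * w'⁆ = x * (w * (c * w')) * w⁻¹ * x⁻¹ * (c * w')⁻¹ := by
        simp only [commutatorElement_def]; group
    _ = x * c * (w' * x⁻¹) * w'⁻¹ * c⁻¹ := by rw [h1]; group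
    _ = ⁅x, c⁆ := by rw [h3]; simp only [commutatorElement_def]; group

theorem Y_cent_B {y b : G} (hy : y ∈ 𝐘) (hb : b ∈ 𝐁) : y * b = b * y :=
  mem_centralizer_iff.1 hb.2 y hy

namespace Frame

variable (f : Frame T M V E g)
include f

theorem QB_le_T : 𝐐𝐁 ≤ (T : Subgroup G) := f.QB_le_B.trans inf_le_left

theorem YV_le_QB : 𝐘 ⊔ V ≤ 𝐐𝐁 := by
  rw [f.QB_eq]
  refine le_inf (sup_le f.Y_le_Q f.start.setup.le_core) (sup_le f.Y_le_B (f.V_le_J.trans (thompson_le_baumann _)))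

theorem T_normalizes_Y : (T : Subgroup G) ≤ normalizer (𝐘 : Set G) := fun t ht => by
  refine mem_normalizer_iff_map_conj_eq.2 ?_
  show (𝐘).map (MulAut.conj t).toMonoidHom = 𝐘
  have hJ : (𝐉).map (MulAut.conj t).toMonoidHom = 𝐉 := mem_normalizer_iff_map_conj_eq.1
    (PLocal.normalizer_le_normalizer_thompsonSubgroupOf _ (Subgroup.le_normalizer ht))
  rw [Y, Cfsg.centerThompsonOf, PLocal.map_omegaOne _ (MulAut.conj t).injective.injOn,
    Subgroup.map_inf _ _ _ (MulAut.conj t).injective, Baumann.map_centralizer_equiv, hJ]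

/-- `Y V` has exponent two. -/
theorem YV_sq {w : G} (hw : w ∈ 𝐘 ⊔ V) : w * w = 1 := by
  haveI := f.YV_normal
  obtain ⟨y, hy, v, hv, rfl⟩ := mem_sup_of_normal_right.1 hw
  have hyv : y * v = v * y := ((mem_Y.1 hy).2.1 _ (f.V_le_J hv)).symm
  have hy2 : y * y = 1 := by rw [← pow_two]; exact (mem_Y.1 hy).2.2
  have hv2 : v * v = 1 := by rw [← pow_two]; exact f.V_pow hv
  calc y * v * (y * v) = y * v * (v * y) := by rw [hyv]
    _ = y * (v * v) * y := by group
    _ = 1 := by rw [hv2, mul_one, hy2]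

/-- Commutators of `Y V` with `B`. -/
theorem comm_formula {y : G} (hy : y ∈ 𝐘) (v : Additive ↥V) {b : G} (hb : b ∈ 𝐁) :
    ⁅y * gval v, b⁆ = gval (v - zAct (V := V) (𝐦 b) v) := by
  rw [gval_comm]
  have h1 : ⁅gval v, b⁆ ∈ V := by
    rw [commutatorElement_def, mul_assoc, mul_assoc]
    refine mul_mem (gval_mem v) ?_
    rw [← mul_assoc]
    exact (inferInstance : V.Normal).conj_mem _ (inv_mem (gval_mem v)) b
  calc ⁅y * gval v, b⁆ = y * ⁅gval v, b⁆ * y⁻¹ * (y * b * y⁻¹ * b⁻¹) := by simp only [commutatorElement_def]; group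
    _ = ⁅gval v, b⁆ := by
      rw [Y_cent_B hy hb, ← (mem_Y.1 hy).2.1 _ (f.V_le_J h1)]; group

end Frame

namespace Cover

variable (h : Cover T M V E g K)
include h

/-- A member fixes `Q_B` modulo `Y V`. -/
theorem member_fix (i : Fin r) {k : G} (hk : k ∈ K i) {x : G} (hx : x ∈ 𝐐𝐁) :
    ∃ w ∈ 𝐘 ⊔ V, k * x * k⁻¹ = x * w := by
  haveI hYV := h.frame.YV_normal
  haveI hQBn := h.frame.QB_normal
  have hn : 𝐁 ≤ normalizer (K i : Set G) := Baumann.commutator_le_self_of_eq (h.mem i).block.2.1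
  have hKQ : ⁅x, k⁆ ∈ K i ⊓ 𝐐𝐁 := by
    refine ⟨?_, ?_⟩
    · rw [commutatorElement_def]
      exact (K i).mul_mem ((mem_normalizer_iff.1 (hn (h.frame.QB_le_B hx)) k).1 hk) ((K i).inv_mem hk)
    · rw [commutatorElement_def, mul_assoc, mul_assoc]
      refine mul_mem hx ?_
      rw [← mul_assoc]
      exact hQBn.conj_mem _ (inv_mem hx) k
  have hO : K i ⊓ 𝐐𝐁 ≤ Cfsg.pCoreOf 2 (K i) := fun z hz => by
    refine ⟨⟨z, hz.1⟩, Cores.le_pCore (N := (𝐐𝐁).subgroupOf (K i)) inferInstance ?_ hz.2, rfl⟩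
    exact ((T.2.to_le h.frame.QB_le_T).comap_subtype)
  have hcore : Cfsg.pCoreOf 2 (K i) ≤ 𝐘 ⊔ V := by
    rcases (h.mem i).block.2.2.2.2 with ⟨F, _, _, n, -, -, -, hQ | ⟨h3, -⟩⟩ | ⟨-, m, -, -, hQ⟩
    · exact hQ.le.trans (h.mem i).omega
    · exact absurd h3 (by omega)
    · exact hQ.le.trans (h.mem i).omega
  refine ⟨x⁻¹ * ⁅x, k⁆⁻¹ * x, ?_, ?_⟩
  · simpa using hYV.conj_mem _ (inv_mem (hcore (hO hKQ))) x⁻¹
  · simp only [commutatorElement_def]; group

/-- An element opposite to `T` that fixes `Q_B` modulo `Y V`. -/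
theorem exists_pivot : ∃ k : G, (∀ x ∈ 𝐐𝐁, ∃ w ∈ 𝐘 ⊔ V, k * x * k⁻¹ = x * w) ∧
    (∀ x ∈ 𝐐𝐁, ∃ w ∈ 𝐘 ⊔ V, k⁻¹ * x * k = x * w) ∧
    cj ((𝐉).map 𝐦) (𝐦 k) = cj ((𝐉).map 𝐦) (𝐦 g) := by
  haveI := h.normal
  haveI hYV := h.frame.YV_normal
  haveI hQBn := h.frame.QB_normal
  let H : Subgroup G :=
    { carrier := {k | ∀ x ∈ 𝐐𝐁, ∃ w ∈ 𝐘 ⊔ V, k * x * k⁻¹ = x * w}
      one_mem' := fun x _ => ⟨1, one_mem _, by group⟩
      mul_mem' := fun {a b} ha hb x hx => by
        obtain ⟨w, hw, e⟩ := hb x hx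
        obtain ⟨w', hw', e'⟩ := ha x hx
        refine ⟨w' * (a * w * a⁻¹), mul_mem hw' (hYV.conj_mem w hw a), ?_⟩
        calc a * b * x * (a * b)⁻¹ = a * (b * x * b⁻¹) * a⁻¹ := by group
          _ = a * x * a⁻¹ * (a * w * a⁻¹) := by rw [e]; group
          _ = x * (w' * (a * w * a⁻¹)) := by rw [e', mul_assoc]
      inv_mem' := fun {a} ha x hx => by
        obtain ⟨w, hw, e⟩ := ha x hx
        refine ⟨a⁻¹ * w⁻¹ * a, by simpa using hYV.conj_mem _ (inv_mem hw) a⁻¹, ?_⟩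
        calc a⁻¹ * x * a⁻¹⁻¹ = a⁻¹ * (x * w) * w⁻¹ * a := by group
          _ = a⁻¹ * (a * x * a⁻¹) * w⁻¹ * a := by rw [e]
          _ = x * (a⁻¹ * w⁻¹ * a) := by group }
  have hKH : (⨆ i, K i) ≤ H := iSup_le fun i k hk x hx => h.member_fix i hk hx
  -- the image of the members and of `J` cover the components
  haveI : ((⨆ i, K i).map 𝐦).Normal :=
    Normal.map inferInstance _ (QuotientGroup.mk'_surjective _)
  have hsup : (⨆ i, E i) ≤ (⨆ i, K i).map 𝐦 ⊔ (𝐉).map 𝐦 := iSup_le fun i => (h.fill i).trans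
    (sup_le_sup_right ((h.mem i).map.ge.trans (map_mono (le_iSup K i))) _)
  obtain ⟨_, ⟨k, hk, rfl⟩, j, hj, e⟩ := mem_sup_of_normal_left.1 (hsup h.frame.mem)
  refine ⟨k, hKH hk, fun x hx => by simpa using H.inv_mem (hKH hk) x hx, ?_⟩
  rw [← e]
  ext q
  rw [mem_cj, mem_cj, mul_inv_rev]
  generalize 𝐦 k = kb
  refine ⟨fun hq => ?_, fun hq => ?_⟩
  · have := mul_mem (mul_mem (inv_mem hj) hq) hj
    simpa [mul_assoc] using this
  · have := mul_mem (mul_mem hj hq) (inv_mem hj)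
    simpa [mul_assoc] using this

variable {W S : Type} [Group W] [AddCommGroup S] [Finite S] {act : W →* AddMonoid.End S}
  (c : ∀ i, Single (zAct (V := V)) act (E i)) (π : Proj E) {B₀ : Subgroup W} {κ : Type}
  {R : κ → Subgroup W} {Pm : κ → AddSubgroup S} {q : ℕ}

omit [Finite S] in
/-- An element of a root group fixes the vectors with coordinate in the other halves. -/
theorem fix_exact (d : Std 2 ((T : Subgroup G).map 𝐦) c π B₀ ((𝐉).map 𝐦))
    (hm : PairModel act 2 B₀ R Pm q) {i : Fin r} {l : κ} {x : ↥(E i)} (hx : (c i).e x ∈ R l)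
    {v : Additive ↥V} (hv : (c i).ψ v ∈ fixS act B₀ ∨ ∃ m, m ≠ l ∧ (c i).ψ v ∈ Pm m) :
    zAct (V := V) (x : G ⧸ centralizer (V : Set G)) v = v := by
  classical
  have s := h.frame.set
  obtain ⟨f₀, hf₀, w, hw, e⟩ := AddSubgroup.mem_sup.1 ((fix_sup_comS s.split i).ge (AddSubgroup.mem_top v))
  have hψw : (c i).ψ w = (c i).ψ v := by
    rw [← e, map_add, ((c i).ker f₀).2 hf₀, zero_add]
  have hψj : ∀ u ∈ comS (zAct (V := V)) (E i), ∀ j, j ≠ i → (c j).ψ u = 0 := fun u hu j hj =>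
    ((c j).ker u).2 (s.split.orth i j (Ne.symm hj) hu)
  have hxJ : (x : G ⧸ centralizer (V : Set G)) ∈ (𝐉).map 𝐦 := by
    refine (d.mem_iff ⟨x, le_iSup E i x.2⟩).2 fun j => ?_
    by_cases ej : j = i
    · subst ej
      rw [(chi_single c π x.2 _).1]
      exact hm.R_le l hx
    · rw [(chi_single c π x.2 _).2 j ej]; exact one_mem _
  have key : ∀ u ∈ comS (zAct (V := V)) (E i), (c i).ψ u ∈ fixS act B₀ →
      zAct (V := V) (x : G ⧸ centralizer (V : Set G)) u = u := fun u hu hu' =>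
    (d.fix_iff u).2 (fun j => if ej : j = i then ej ▸ hu' else (hψj u hu j ej) ▸ zero_mem _) _ hxJ
  rw [← e, map_add, hf₀ x x.2]
  congr 1
  rcases hv with hv | ⟨m, hml, hv⟩
  · exact key w hw (hψw ▸ hv)
  obtain ⟨u, a, hua, hfix⟩ := hm.split_comm l m (Ne.symm hml) _ hv
  obtain ⟨hcomm, hxu⟩ := hua _ hx
  obtain ⟨u₁, hu₁, hu₁e⟩ := (c i).surj u
  set y : ↥(E i) := (c i).e.symm a
  set w₁ := u₁ - zAct (V := V) (y : G ⧸ centralizer (V : Set G)) u₁
  have hw₁ : w₁ ∈ comS (zAct (V := V)) (E i) := sub_mem hu₁ (FFMinimal.apply_mem_comS y.2 hu₁)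
  have hk : zAct (V := V) (x : G ⧸ centralizer (V : Set G)) u₁ - u₁ ∈ fixS (zAct (V := V)) (E i) :=
    ((c i).ker _).1 (by rw [map_sub, (c i).equiv, hu₁e, hxu, sub_self])
  have hxy : x * y = y * x := (c i).e.injective (by rw [map_mul, map_mul, MulEquiv.apply_symm_apply, hcomm])
  have hfix₁ : zAct (V := V) (x : G ⧸ centralizer (V : Set G)) w₁ = w₁ := by
    have h1 : zAct (V := V) (y : G ⧸ centralizer (V : Set G))
        (zAct (V := V) (x : G ⧸ centralizer (V : Set G)) u₁ - u₁) =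
          zAct (V := V) (x : G ⧸ centralizer (V : Set G)) u₁ - u₁ := hk _ y.2
    have e2 : (y : G ⧸ centralizer (V : Set G)) * x = (x : G ⧸ centralizer (V : Set G)) * y :=
      (congrArg Subtype.val hxy).symm
    rw [map_sub, ← app_mul, e2, sub_eq_sub_iff_add_eq_add] at h1
    rw [map_sub, ← app_mul, sub_eq_sub_iff_add_eq_add, ← h1, add_comm]
  have hrest := key (w - w₁) (sub_mem hw hw₁) (by
    rwa [map_sub, map_sub, (c i).equiv, hu₁e, MulEquiv.apply_symm_apply, hψw])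
  rw [← sub_add_cancel w w₁, map_add, hrest, hfix₁]

/-- The halves. -/
theorem exists_halves (d : Std 2 ((T : Subgroup G).map 𝐦) c π B₀ ((𝐉).map 𝐦))
    (hm : PairModel act 2 B₀ R Pm q)
    (htr : ∀ i l m, ∃ w ∈ (c i).img ((T : Subgroup G).map 𝐦), ∀ a ∈ R l, w * a * w⁻¹ ∈ R m) :
    ∃ (N : Subgroup ↥(T : Subgroup G)) (Rs Ps : Fin r × κ → Subgroup ↥(T : Subgroup G)),
      Halves ((𝐘 ⊔ V).subgroupOf (T : Subgroup G)) ((𝐘).subgroupOf (T : Subgroup G))
        ((𝐁).subgroupOf (T : Subgroup G)) ((𝐐𝐁).subgroupOf (T : Subgroup G)) N q Rs Ps := by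
  classical
  have f := h.frame
  have s := f.set
  have st := f.start
  haveI hYV := f.YV_normal
  haveI hQBn := f.QB_normal
  obtain ⟨k, hk, hk', hkJ⟩ := h.exists_pivot
  have hY_T : 𝐘 ≤ (T : Subgroup G) := f.Y_le_B.trans inf_le_left
  haveI hYn : ((𝐘).subgroupOf (T : Subgroup G)).Normal :=
    normal_subgroupOf_of_le_normalizer f.T_normalizes_Y
  -- the halves and the root groups
  let hv : Fin r × κ → AddSubgroup (Additive ↥V) := fun il =>
    (Pm il.2).comap (c il.1).ψ ⊓ ⨅ (j : Fin r) (_ : j ≠ il.1), (fixS act B₀).comap (c j).ψ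
  have mem_hv : ∀ {il v}, v ∈ hv il ↔ (c il.1).ψ v ∈ Pm il.2 ∧ ∀ j, j ≠ il.1 → (c j).ψ v ∈ fixS act B₀ := by
    intro il v
    simp only [hv, AddSubgroup.mem_inf, AddSubgroup.mem_iInf, AddSubgroup.mem_comap]
  let Ps : Fin r × κ → Subgroup ↥(T : Subgroup G) := fun il =>
    (𝐘).subgroupOf (T : Subgroup G) ⊔ (gSub (hv il)).subgroupOf (T : Subgroup G)
  let Rs : Fin r × κ → Subgroup ↥(T : Subgroup G) := fun il =>
    (𝐁 ⊓ ((((R il.2).comap (c il.1).e.toMonoidHom).map (E il.1).subtype).comap 𝐦)).subgroupOf (T : Subgroup G)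
  have mem_Rs : ∀ {il} {b : ↥(T : Subgroup G)}, b ∈ Rs il ↔
      (b : G) ∈ 𝐁 ∧ ∃ x : ↥(E il.1), (c il.1).e x ∈ R il.2 ∧ (x : G ⧸ centralizer (V : Set G)) = 𝐦 b := by
    intro il b
    simp only [Rs, mem_subgroupOf, mem_inf, mem_comap]
    exact ⟨fun ⟨h1, x, hx, e⟩ => ⟨h1, x, hx, e⟩, fun ⟨h1, x, hx, e⟩ => ⟨h1, x, hx, e⟩⟩
  have hVT : ∀ v : Additive ↥V, gval v ∈ (T : Subgroup G) := fun v => f.V_le_T (gval_mem v)
  have mem_Ps : ∀ {il : Fin r × κ} {x : ↥(T : Subgroup G)}, x ∈ Ps il ↔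
      ∃ y ∈ 𝐘, ∃ v ∈ hv il, (x : G) = y * gval v := by
    intro il x
    constructor
    · intro hx
      obtain ⟨y, hy, z, ⟨v, hv', e⟩, rfl⟩ := mem_sup_of_normal_left.1 hx
      refine ⟨y, hy, v, hv', ?_⟩
      rw [Subgroup.coe_mul, show gval v = (z : G) from e]
    · rintro ⟨y, hy, v, hv', e⟩
      rw [show x = ⟨y, hY_T hy⟩ * ⟨gval v, hVT v⟩ from Subtype.ext e]
      exact mul_mem_sup hy ⟨v, hv', rfl⟩
  have mem_W : ∀ {x : G}, x ∈ 𝐘 ⊔ V → ∃ y ∈ 𝐘, ∃ v : Additive ↥V, x = y * gval v := fun {x} hx => by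
    obtain ⟨y, hy, v, hv', rfl⟩ := mem_sup_of_normal_right.1 hx
    exact ⟨y, hy, gmk hv', rfl⟩
  have hfixJ : ∀ {v : Additive ↥V}, (∀ j, (c j).ψ v ∈ fixS act B₀) → gval v ∈ 𝐘 := fun {v} hv' =>
    f.mem_fix_J.1 ((d.fix_iff v).2 hv')
  have hJmem : ∀ {b : G}, b ∈ 𝐁 → 𝐦 b ∈ (𝐉).map 𝐦 := fun hb => f.map_B.le (mem_map_of_mem _ hb)
  have hJsup : ∀ {b : G}, b ∈ 𝐁 → 𝐦 b ∈ ⨆ j, E j := fun hb => d.le_sup (hJmem hb)
  have hchiK : ∀ {b : G} (hb : b ∈ 𝐁) (j : Fin r), chi c π j ⟨_, hJsup hb⟩ ∈ B₀ := fun hb j =>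
    (d.mem_iff ⟨_, hJsup hb⟩).1 (hJmem hb) j
  have hQBof : ∀ {b : G}, b ∈ 𝐁 → 𝐦 b = 1 → b ∈ 𝐐𝐁 := fun hb e => f.QB_eq.ge
    ⟨st.centralizer_inf ⟨(QuotientGroup.eq_one_iff _).1 e, hb.1⟩, hb⟩
  have hQBone : ∀ {b : G}, b ∈ 𝐐𝐁 → 𝐦 b = 1 := fun hb =>
    (QuotientGroup.eq_one_iff _).2 (st.setup.core hb.1)
  have hWC : ∀ c' ∈ 𝐐𝐁, ∀ x ∈ 𝐘 ⊔ V, c' * x = x * c' := fun c' hc' x hx =>
    (mem_centralizer_iff.1 (f.QB_cent hc') x hx).symm
  have hexact : ∀ {il : Fin r × κ} {b : G}, (b ∈ 𝐁 ∧ ∃ x : ↥(E il.1), (c il.1).e x ∈ R il.2 ∧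
      (x : G ⧸ centralizer (V : Set G)) = 𝐦 b) → ∀ v : Additive ↥V,
      ((c il.1).ψ v ∈ fixS act B₀ ∨ ∃ m, m ≠ il.2 ∧ (c il.1).ψ v ∈ Pm m) →
      zAct (V := V) (𝐦 b) v = v := by
    rintro il b ⟨-, x, hx, e⟩ v hv'
    rw [← e]
    exact h.fix_exact c π d hm hx hv'
  have hcoord : ∀ {il : Fin r × κ} {b : G} (hb : b ∈ 𝐁), (∃ x : ↥(E il.1), (c il.1).e x ∈ R il.2 ∧
      (x : G ⧸ centralizer (V : Set G)) = 𝐦 b) →
      chi c π il.1 ⟨_, hJsup hb⟩ ∈ R il.2 ∧ ∀ j, j ≠ il.1 → chi c π j ⟨_, hJsup hb⟩ = 1 := by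
    rintro il b hb ⟨x, hx, e⟩
    have e' : (⟨𝐦 b, hJsup hb⟩ : ↥(⨆ j, E j)) = ⟨(x : G ⧸ centralizer (V : Set G)), le_iSup E il.1 x.2⟩ :=
      Subtype.ext e.symm
    refine ⟨?_, fun j hj => by rw [e', (chi_single c π x.2 _).2 j hj]⟩
    rw [e', (chi_single c π x.2 _).1]; exact hx
  have hpsi : ∀ {b : G} (hb : b ∈ 𝐁) (j : Fin r) (v : Additive ↥V),
      (c j).ψ (v - zAct (V := V) (𝐦 b) v) = (c j).ψ v - act (chi c π j ⟨_, hJsup hb⟩) ((c j).ψ v) :=
    fun {b} hb j v => by rw [map_sub]; exact congrArg _ (psi_app c π s.split j ⟨_, hJsup hb⟩ v)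
  -- a member of largest order over every root group
  have hmemb : ∀ il : Fin r × κ, ∃ A ∈ maxIn (elemAb 2) (T : Subgroup G), ∀ a ∈ R il.2,
      ((c il.1).e.symm a : G ⧸ centralizer (V : Set G)) ∈ A.map 𝐦 := by
    intro il
    obtain ⟨-, -, hoff⟩ := st.setup.quotient st.pmin st.cstarstar
    obtain ⟨A₁, hA₁, hA₁T⟩ := PLocal.exists_maxElemAb_le_sylow T
    have hmax : ∀ A ∈ maxIn (elemAb 2) (T : Subgroup G), A ∈ Cfsg.maxElementaryAbelianSubgroups 2 G := fun A hA => by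
      rw [PLocal.maxElemAb_eq]
      exact PLocal.maxIn_subset hA₁ hA₁T le_top hA
    have hlow : ∀ A ∈ maxIn (elemAb 2) (T : Subgroup G), A.map 𝐦 ≤ (𝐉).map 𝐦 := fun A hA =>
      map_mono (by rw [PLocal.thompsonSubgroupOf_eq]; exact le_sSup hA)
    have hwt : ∀ A ∈ maxIn (elemAb 2) (T : Subgroup G), Elem 2 (A.map 𝐦) ∧
        Nat.card (Additive ↥V) ≤ wt (zAct (V := V)) (A.map 𝐦) := fun A hA => by
      rcases hoff A (hmax A hA) with e | e
      · rw [e]
        refine ⟨FFMinimal.Elem.bot 2, ?_⟩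
        rw [wt, card_bot, one_mul, FFMinimal.fix_bot, AddSubgroup.card_top]
      · exact ⟨e.elem, e.le⟩
    by_contra hno
    push Not at hno
    have hfixed : ∀ A ∈ maxIn (elemAb 2) (T : Subgroup G), ∀ a ∈ shadow c π (A.map 𝐦) il.1,
        ∀ z ∈ Pm il.2, act a z = z := by
      intro A hA a ha z hz
      by_contra hne
      obtain ⟨el, hw⟩ := hwt A hA
      have hsh : ∀ j, shadow c π (A.map 𝐦) j ≤ B₀ := by
        rintro j _ ⟨y, hy, rfl⟩
        exact (d.mem_iff y).1 (hlow A hA hy) j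
      obtain ⟨h1, h2, -⟩ := (count c π s.split (A.map 𝐦) ((hlow A hA).trans d.le_sup) fun j =>
        hm.bound _ (hsh j) (shadow_elem c π el j)).2 hw
      obtain ⟨b, hb, hbA⟩ := hno A hA
      obtain ⟨y, hy, e⟩ := exists_mem_component c π h2
        (hm.full _ (hsh il.1) (shadow_elem c π el il.1) (h1 il.1) il.2 ⟨a, ha, z, hz, hne⟩ hb)
      exact hbA (by rw [← e, MulEquiv.symm_apply_apply]; exact hy)
    obtain ⟨a, ha, ha1⟩ := hm.R_ne il.2
    have hfa : ∀ z ∈ Pm il.2, act a z = z := by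
      let H : Subgroup ↥(⨆ j, E j) :=
        { carrier := {x | ∀ z ∈ Pm il.2, act (chi c π il.1 x) z = z}
          one_mem' := fun z _ => by rw [map_one, map_one]; rfl
          mul_mem' := fun {x y} hx hy z hz => by rw [map_mul, app_mul, hy z hz, hx z hz]
          inv_mem' := fun {x} hx z hz => by
            conv_lhs => rw [← hx z hz]
            rw [map_inv, OffenderSL2.app_inv_self] }
      have hle : (𝐉).map 𝐦 ≤ H.map (⨆ j, E j).subtype := by
        rw [PLocal.thompsonSubgroupOf_eq, map_le_iff_le_comap]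
        refine sSup_le fun A hA => map_le_iff_le_comap.1 fun y hy => ?_
        exact ⟨⟨y, d.le_sup (hlow A hA hy)⟩, fun z hz => hfixed A hA _ ⟨_, hy, rfl⟩ z hz, rfl⟩
      have hy := ((c il.1).e.symm a).2
      obtain ⟨x, hx, e⟩ := hle ((d.mem_iff ⟨((c il.1).e.symm a : G ⧸ _), le_iSup E il.1 hy⟩).2 fun j => by
        by_cases ej : j = il.1
        · subst ej
          rw [(chi_single c π hy _).1, Subtype.coe_eta, MulEquiv.apply_symm_apply]
          exact hm.R_le _ ha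
        · rw [(chi_single c π hy _).2 j ej]; exact one_mem _)
      obtain rfl : x = ⟨((c il.1).e.symm a : G ⧸ _), le_iSup E il.1 hy⟩ := Subtype.ext e
      intro z hz
      have h1 := hx z hz
      rwa [(chi_single c π hy _).1, Subtype.coe_eta, MulEquiv.apply_symm_apply] at h1
    have hle : Pm il.2 ≤ fixS act B₀ := fun z hz => hm.sharp il.2 a ha ha1 z hz (hfa z hz)
    have h1 := AddSubgroup.card_le_of_le hle
    rw [hm.P_card] at h1
    have h2 : 0 < Nat.card ↥(fixS act B₀) := Nat.card_pos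
    have := hm.one_lt
    nlinarith
  let N : Subgroup ↥(T : Subgroup G) :=
    (centralizer ((𝐁 ⊔ (𝐁).map (MulAut.conj k).toMonoidHom : Subgroup G) : Set G)).subgroupOf (T : Subgroup G)
  have hN : ∀ {z : ↥(T : Subgroup G)}, (z : G) ∈ 𝐘 → k⁻¹ * z * k ∈ 𝐘 → z ∈ N := by
    intro z hz hz'
    rw [mem_subgroupOf, PLocal.centralizer_sup]
    refine ⟨mem_centralizer_iff.2 fun b hb => (Y_cent_B hz hb).symm, mem_centralizer_iff.2 ?_⟩
    rintro _ ⟨b, hb, rfl⟩
    show k * b * k⁻¹ * z = z * (k * b * k⁻¹)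
    calc k * b * k⁻¹ * z = k * (b * (k⁻¹ * z * k)) * k⁻¹ := by group
      _ = k * (k⁻¹ * z * k * b) * k⁻¹ := by rw [Y_cent_B hz' hb]
      _ = z * (k * b * k⁻¹) := by group
  have hfixN : ∀ w : Additive ↥V, (⟨gval w, hVT w⟩ : ↥(T : Subgroup G)) ∈ N → ∀ j, (c j).ψ w = 0 := by
    intro w hw
    rw [mem_subgroupOf, PLocal.centralizer_sup] at hw
    refine (fix_all c).1 fun x hx => ?_
    rw [← f.gen, ← hkJ] at hx
    refine (?_ : (𝐉).map 𝐦 ⊔ cj ((𝐉).map 𝐦) (𝐦 k) ≤ FFMinimal.fixingV (zAct (V := V)) {w}) hx w rfl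
    refine sup_le ?_ ?_ <;> refine FFMinimal.le_fixing_of_fix ?_
    · exact mem_fix_map.2 (Subgroup.centralizer_le (SetLike.coe_subset_coe.2 (thompson_le_baumann _)) hw.1)
    · rw [cj, Subgroup.map_map, show (MulAut.conj (𝐦 k)).toMonoidHom.comp 𝐦 =
        (QuotientGroup.mk' (centralizer (V : Set G))).comp (MulAut.conj k).toMonoidHom from
          MonoidHom.ext fun x => by simp, ← Subgroup.map_map]
      exact mem_fix_map.2 (Subgroup.centralizer_le
        (SetLike.coe_subset_coe.2 (map_mono (thompson_le_baumann _))) hw.2)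
  refine ⟨N, Rs, Ps,
    { one_lt := hm.one_lt
      B_normal := normal_subgroupOf_of_le_normalizer (Baumann.baumann_normalized T T.2 inf_le_left)
      W_normal := normal_subgroupOf
      C_normal := normal_subgroupOf
      W_le_C := fun x hx => f.YV_le_QB hx
      C_le_B := fun x hx => f.QB_le_B hx
      Y_le_P := fun il => le_sup_left
      P_le_W := fun il => sup_le (fun x hx => mem_sup_left hx) fun x hx => by
        obtain ⟨v, -, e⟩ := hx
        exact mem_sup_right (show (x : G) ∈ V from (show gval v = (x : G) from e) ▸ gval_mem v)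
      W_comm := fun x hx y hy => Subtype.ext (hWC _ (f.YV_le_QB hx) _ hy)
      W_sq := fun x hx => Subtype.ext ?_
      C_cent := fun c' hc x hx => Subtype.ext (hWC _ hc _ hx)
      Y_cent := fun y hy b hb => Subtype.ext (Y_cent_B hy hb)
      C_eq := ?_, W_gen := ?_, comm := ?_, mem_R := ?_, R_gen := ?_, sharp := ?_, indep := ?_, indepN := ?_,
      P_index := ?_, R_index := ?_, killed := ?_, sq := ?_, member := ?_, Y_max := ?_, trans := ?_ }⟩
  · -- exponent two
    exact f.YV_sq hx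
  · -- an element centralising all halves lies in `QB`
    intro b hb hfix
    replace hb : (b : G) ∈ 𝐁 := hb
    refine hQBof hb ?_
    have h1 : ∀ j, chi c π j ⟨_, hJsup hb⟩ = 1 := fun j => hm.faith _ fun z => by
      have hH : (⨆ l, Pm l) ⊔ fixS act B₀ ≤
          AddMonoidHom.eqLocus (act (chi c π j ⟨_, hJsup hb⟩)) (AddMonoidHom.id S) := by
        refine sup_le (iSup_le fun l z hz => ?_) fun z hz => hz _ (hchiK hb j)
        obtain ⟨v, hv'⟩ := joint_surj c s.split (Function.update 0 j z)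
        have hvm : v ∈ hv (j, l) := mem_hv.2 ⟨by rw [hv' j, Function.update_self]; exact hz,
          fun i hi => by rw [hv' i, Function.update_of_ne hi]; exact zero_mem _⟩
        have h2 := congrArg Subtype.val
          (hfix (j, l) ⟨gval v, hVT v⟩ (mem_Ps.2 ⟨1, one_mem _, v, hvm, (one_mul _).symm⟩))
        rw [show ((⁅(⟨gval v, hVT v⟩ : ↥(T : Subgroup G)), b⁆ : ↥(T : Subgroup G)) : G) = ⁅1 * gval v, (b : G)⁆ by
          rw [one_mul]; rfl, f.comm_formula (one_mem _) v hb, OneMemClass.coe_one, ← gval_zero (V := V)] at h2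
        have h3 := hpsi hb j v
        rw [gval_injective h2, map_zero, hv' j, Function.update_self, eq_comm, sub_eq_zero] at h3
        exact h3.symm
      exact hH (hm.P_gen.ge (AddSubgroup.mem_top z))
    exact congrArg Subtype.val (π.inj ⟨_, hJsup hb⟩ fun j =>
      (c j).e.injective ((h1 j).trans (map_one _).symm))
  · -- the halves generate
    intro x hx
    obtain ⟨y, hy, v, e⟩ := mem_W (x := (x : G)) hx
    let H : AddSubgroup (Additive ↥V) :=
      { carrier := {v | (⟨gval v, hVT v⟩ : ↥(T : Subgroup G)) ∈ (⨆ il, Ps il) ⊔ (𝐘).subgroupOf (T : Subgroup G)}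
        zero_mem' := ((⨆ il, Ps il) ⊔ (𝐘).subgroupOf (T : Subgroup G)).one_mem
        add_mem' := fun {a b} ha hb => ((⨆ il, Ps il) ⊔ (𝐘).subgroupOf (T : Subgroup G)).mul_mem ha hb
        neg_mem' := fun {a} ha => show (⟨gval a, hVT a⟩ : ↥(T : Subgroup G))⁻¹ ∈ _ from
          ((⨆ il, Ps il) ⊔ (𝐘).subgroupOf (T : Subgroup G)).inv_mem ha }
    have hP : ∀ il, hv il ≤ H := fun il v hv' => mem_sup_left (mem_iSup_of_mem il
      (mem_Ps.2 ⟨1, one_mem _, v, hv', (one_mul _).symm⟩))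
    have hF : ∀ v, (∀ j, (c j).ψ v ∈ fixS act B₀) → v ∈ H := fun v hv' => mem_sup_right (hfixJ hv')
    have hone : ∀ j, ∀ z : S, ∃ v ∈ H, ∀ i, (c i).ψ v = Function.update (0 : Fin r → S) j z i := by
      intro j
      let Z : AddSubgroup S :=
        { carrier := {z | ∃ v ∈ H, ∀ i, (c i).ψ v = Function.update (0 : Fin r → S) j z i}
          zero_mem' := ⟨0, zero_mem _, fun i => by simp⟩
          add_mem' := by
            rintro a b ⟨va, hva, ea⟩ ⟨vb, hvb, eb⟩
            refine ⟨va + vb, add_mem hva hvb, fun i => ?_⟩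
            rw [map_add, ea, eb]
            by_cases e' : i = j
            · subst e'; simp
            · simp [Function.update_of_ne e']
          neg_mem' := by
            rintro a ⟨va, hva, ea⟩
            refine ⟨-va, neg_mem hva, fun i => ?_⟩
            rw [map_neg, ea]
            by_cases e' : i = j
            · subst e'; simp
            · simp [Function.update_of_ne e'] }
      suffices hZ : (⨆ l, Pm l) ⊔ fixS act B₀ ≤ Z from fun z => hZ (hm.P_gen.ge (AddSubgroup.mem_top z))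
      refine sup_le (iSup_le fun l z hz => ?_) fun z hz => ?_
      · obtain ⟨v, hv'⟩ := joint_surj c s.split (Function.update 0 j z)
        exact ⟨v, hP (j, l) (mem_hv.2 ⟨by rw [hv' j, Function.update_self]; exact hz,
          fun i hi => by rw [hv' i, Function.update_of_ne hi]; exact zero_mem _⟩), hv'⟩
      · obtain ⟨v, hv'⟩ := joint_surj c s.split (Function.update 0 j z)
        refine ⟨v, hF v fun i => ?_, hv'⟩
        rw [hv' i]
        by_cases e' : i = j
        · subst e'; rwa [Function.update_self]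
        · rw [Function.update_of_ne e']; exact zero_mem _
    choose w hw hwe using fun j => hone j ((c j).ψ v)
    have hvH : v ∈ H := by
      have h1 : v - ∑ j, w j ∈ H := hF _ fun i => by
        rw [map_sub, map_sum, Finset.sum_eq_single i (fun j _ hj => by
          rw [hwe j i, Function.update_of_ne (Ne.symm hj)]; rfl) (fun hn => absurd (Finset.mem_univ i) hn),
          hwe i i, Function.update_self, sub_self]
        exact zero_mem _
      have h2 := add_mem h1 (sum_mem (t := Finset.univ) fun j _ => hw j)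
      rwa [sub_add_cancel] at h2
    rw [show x = ⟨y, hY_T hy⟩ * ⟨gval v, hVT v⟩ from Subtype.ext e]
    exact mul_mem (mem_sup_right hy) hvH
  · -- commutators lie in `Y`
    intro x hx b hb
    replace hb : (b : G) ∈ 𝐁 := hb
    obtain ⟨y, hy, v, e⟩ := mem_W (x := (x : G)) hx
    show ⁅(x : G), (b : G)⁆ ∈ 𝐘
    rw [e, f.comm_formula hy v hb]
    exact hfixJ fun j => by rw [hpsi hb j v]; exact hm.quad _ (hchiK hb j) _
  · -- the root groups
    intro il b
    rw [mem_Rs]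
    refine ⟨fun hb => ⟨hb.1, fun km hne x hx => ?_⟩, fun hb' => ⟨hb'.1, ?_⟩⟩
    · obtain ⟨y, hy, v, hv', e⟩ := mem_Ps.1 hx
      refine Subtype.ext ?_
      show ⁅(x : G), (b : G)⁆ = 1
      rw [e, f.comm_formula hy v hb.1, hexact hb v ?_, sub_self, gval_zero]
      rw [mem_hv] at hv'
      by_cases e' : il.1 = km.1
      · exact Or.inr ⟨km.2, fun e'' => hne (Prod.ext e'.symm e''), e' ▸ hv'.1⟩
      · exact Or.inl (hv'.2 il.1 e')
    · obtain ⟨hb, hfix⟩ := hb'
      replace hb : (b : G) ∈ 𝐁 := hb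
      have key : ∀ j m, (j, m) ≠ il → ∀ z ∈ Pm m, act (chi c π j ⟨_, hJsup hb⟩) z = z := by
        intro j m hne z hz
        obtain ⟨v, hv'⟩ := joint_surj c s.split (Function.update 0 j z)
        have hvm : v ∈ hv (j, m) := mem_hv.2 ⟨by rw [hv' j, Function.update_self]; exact hz,
          fun i hi => by rw [hv' i, Function.update_of_ne hi]; exact zero_mem _⟩
        have h2 := congrArg Subtype.val
          (hfix (j, m) hne ⟨gval v, hVT v⟩ (mem_Ps.2 ⟨1, one_mem _, v, hvm, (one_mul _).symm⟩))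
        rw [show ((⁅(⟨gval v, hVT v⟩ : ↥(T : Subgroup G)), b⁆ : ↥(T : Subgroup G)) : G) = ⁅1 * gval v, (b : G)⁆ by
          rw [one_mul]; rfl, f.comm_formula (one_mem _) v hb, OneMemClass.coe_one, ← gval_zero (V := V)] at h2
        have h3 := hpsi hb j v
        rw [gval_injective h2, map_zero, hv' j, Function.update_self, eq_comm, sub_eq_zero] at h3
        exact h3.symm
      have hother : ∀ j, j ≠ il.1 → chi c π j ⟨_, hJsup hb⟩ = 1 := fun j hj => hm.faith _ fun z => by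
        have hH : (⨆ l, Pm l) ⊔ fixS act B₀ ≤
            AddMonoidHom.eqLocus (act (chi c π j ⟨_, hJsup hb⟩)) (AddMonoidHom.id S) :=
          sup_le (iSup_le fun m => fun z hz => key j m (fun e => hj (congrArg Prod.fst e)) z hz)
            fun z hz => hz _ (hchiK hb j)
        exact hH (hm.P_gen.ge (AddSubgroup.mem_top z))
      have hE : 𝐦 (b : G) ∈ E il.1 := π.mem (E il.1) ⟨_, hJsup hb⟩ fun j => by
        by_cases e : j = il.1
        · subst e; exact (π.pr _ _).2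
        · rw [show π.pr j ⟨_, hJsup hb⟩ = 1 from (c j).e.injective ((hother j e).trans (map_one _).symm)]
          exact one_mem _
      refine ⟨⟨_, hE⟩, ?_, rfl⟩
      rw [← (chi_single c π hE (hJsup hb)).1]
      exact hm.mem_R il.2 _ (hchiK hb il.1) fun m hne => key il.1 m fun e => hne (congrArg Prod.snd e)
  · -- the root groups generate
    intro b hb
    have hle : (𝐉).map 𝐦 ≤ ((⨆ il, Rs il).map (T : Subgroup G).subtype).map 𝐦 := by
      intro z hz
      refine π.mem _ ⟨z, d.le_sup hz⟩ fun j => ?_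
      have h1 : (c j).e (π.pr j ⟨z, d.le_sup hz⟩) ∈ B₀ := (d.mem_iff ⟨z, d.le_sup hz⟩).1 hz j
      have h2 : B₀ ≤ ((((⨆ il, Rs il).map (T : Subgroup G).subtype).map 𝐦).subgroupOf (E j)).map
          (c j).e.toMonoidHom := hm.gen.trans (iSup_le fun l a ha => by
        refine ⟨(c j).e.symm a, ?_, (c j).e.apply_symm_apply a⟩
        have hy := ((c j).e.symm a).2
        have hJ' : ((c j).e.symm a : G ⧸ _) ∈ (𝐁).map 𝐦 := f.map_B.ge
          ((d.mem_iff ⟨((c j).e.symm a : G ⧸ _), le_iSup E j hy⟩).2 fun i => by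
            by_cases ei : i = j
            · subst ei
              rw [(chi_single c π hy _).1, Subtype.coe_eta, MulEquiv.apply_symm_apply]
              exact hm.R_le l ha
            · rw [(chi_single c π hy _).2 i ei]; exact one_mem _)
        obtain ⟨b', hb', e⟩ := hJ'
        exact ⟨b', ⟨⟨b', hb'.1⟩, mem_iSup_of_mem (j, l) (mem_Rs.2 ⟨hb', _, by
          rw [MulEquiv.apply_symm_apply]; exact ha, e.symm⟩), rfl⟩, e⟩)
      obtain ⟨x, hx, e⟩ := h2 h1
      rw [← (c j).e.injective e]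
      exact hx
    obtain ⟨_, ⟨b', hb', rfl⟩, e⟩ := hle (hJmem hb)
    have hb'B : (b' : G) ∈ 𝐁 := by
      have : (⨆ il, Rs il) ≤ (𝐁).subgroupOf (T : Subgroup G) := iSup_le fun il x hx => (mem_Rs.1 hx).1
      exact this hb'
    have hq : (b' : G)⁻¹ * b ∈ 𝐐𝐁 := hQBof (mul_mem (inv_mem hb'B) hb)
      (by rw [map_mul, map_inv, show 𝐦 (b' : G) = 𝐦 (b : G) from e, inv_mul_cancel])
    obtain ⟨l₀⟩ := hm.nonempty
    have hb'' : b' * (⟨_, f.QB_le_T hq⟩ : ↥(T : Subgroup G)) = b := Subtype.ext (by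
      show (b' : G) * ((b' : G)⁻¹ * b) = b
      group)
    rw [← hb'']
    refine mul_mem hb' (mem_iSup_of_mem (⟨0, s.split.pos⟩, l₀) (mem_Rs.2 ⟨f.QB_le_B hq, 1, ?_, ?_⟩))
    · rw [map_one]; exact one_mem _
    · exact (hQBone hq).symm
  · -- sharpness
    intro il b hb hbC x hx he
    obtain ⟨y, hy, v, hv', e⟩ := mem_Ps.1 hx
    have hbB := (mem_Rs.1 hb).1
    have h0 := congrArg Subtype.val he
    rw [show ((⁅x, b⁆ : ↥(T : Subgroup G)) : G) = ⁅(x : G), (b : G)⁆ from rfl, e, f.comm_formula hy v hbB,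
      OneMemClass.coe_one, ← gval_zero (V := V)] at h0
    have h1 := hpsi hbB il.1 v
    rw [gval_injective h0, map_zero, eq_comm, sub_eq_zero] at h1
    obtain ⟨hR, hother⟩ := hcoord hbB (mem_Rs.1 hb).2
    have hne : chi c π il.1 ⟨_, hJsup hbB⟩ ≠ 1 := fun e1 => hbC (hQBof hbB
      (congrArg Subtype.val (π.inj ⟨_, hJsup hbB⟩ fun j => (c j).e.injective (by
        rw [map_one]
        by_cases ej : j = il.1
        · subst ej; exact e1
        · exact hother j ej))))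
    rw [mem_hv] at hv'
    have hY : gval v ∈ 𝐘 := hfixJ fun j => by
      by_cases ej : j = il.1
      · subst ej; exact hm.sharp il.2 _ hR hne _ hv'.1 h1.symm
      · exact hv'.2 j ej
    show (x : G) ∈ 𝐘
    rw [e]
    exact mul_mem hy hY
  · -- independence of the root groups
    intro il km hne b hb b' hb' x hx x' hx' he
    obtain ⟨y, hy, v, hv', e⟩ := mem_Ps.1 hx
    obtain ⟨y', hy', v', e'⟩ := mem_W (x := (x' : G)) hx'
    have hbB := (mem_Rs.1 hb).1
    have hbB' := (mem_Rs.1 hb').1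
    have h0 := congrArg Subtype.val he
    rw [show ((⁅x, b⁆ : ↥(T : Subgroup G)) : G) = ⁅(x : G), (b : G)⁆ from rfl,
      show ((⁅x', b'⁆ : ↥(T : Subgroup G)) : G) = ⁅(x' : G), (b' : G)⁆ from rfl, e, e',
      f.comm_formula hy v hbB, f.comm_formula hy' v' hbB'] at h0
    have h1 := congrArg (c il.1).ψ (gval_injective h0)
    rw [hpsi hbB, hpsi hbB'] at h1
    obtain ⟨hR, hother⟩ := hcoord hbB (mem_Rs.1 hb).2
    obtain ⟨hR', hother'⟩ := hcoord hbB' (mem_Rs.1 hb').2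
    have hz : act (chi c π il.1 ⟨_, hJsup hbB⟩) ((c il.1).ψ v) = (c il.1).ψ v := by
      symm
      rw [← sub_eq_zero]
      by_cases ej : il.1 = km.1
      · refine hm.indep il.2 km.2 (fun e2 => hne (Prod.ext ej.symm e2.symm)) _ hR _ ?_ _ _ h1
        rw [← ej] at hR'
        exact hR'
      · rw [h1, hother' il.1 ej, map_one]
        exact sub_self _
    refine Subtype.ext ?_
    show ⁅(x : G), (b : G)⁆ = 1
    rw [e, f.comm_formula hy v hbB]
    rw [mem_hv] at hv'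
    by_cases e1 : chi c π il.1 ⟨_, hJsup hbB⟩ = 1
    · have : 𝐦 (b : G) = 1 := congrArg Subtype.val (π.inj ⟨_, hJsup hbB⟩ fun j => (c j).e.injective (by
        rw [map_one]
        by_cases ej : j = il.1
        · subst ej; exact e1
        · exact hother j ej))
      rw [this, map_one]
      show gval (v - v) = 1
      rw [sub_self, gval_zero]
    · rw [hexact (mem_Rs.1 hb) v (Or.inl (hm.sharp il.2 _ hR e1 _ hv'.1 hz)), sub_self, gval_zero]
  · -- the fixed points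
    intro il b hb x hx hN'
    obtain ⟨y, hy, v, hv', e⟩ := mem_Ps.1 hx
    have hbB := (mem_Rs.1 hb).1
    set w := v - zAct (V := V) (𝐦 (b : G)) v
    have hw : (⁅x, b⁆ : ↥(T : Subgroup G)) = ⟨gval w, hVT w⟩ := Subtype.ext (by
      show ⁅(x : G), (b : G)⁆ = gval w
      rw [e, f.comm_formula hy v hbB])
    have h1 := hfixN w (hw ▸ hN') il.1
    rw [hpsi hbB, sub_eq_zero] at h1
    obtain ⟨hR, hother⟩ := hcoord hbB (mem_Rs.1 hb).2
    rw [mem_hv] at hv'
    rw [hw]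
    refine Subtype.ext (show gval w = 1 from ?_)
    by_cases e1 : chi c π il.1 ⟨_, hJsup hbB⟩ = 1
    · have : 𝐦 (b : G) = 1 := congrArg Subtype.val (π.inj ⟨_, hJsup hbB⟩ fun j => (c j).e.injective (by
        rw [map_one]
        by_cases ej : j = il.1
        · subst ej; exact e1
        · exact hother j ej))
      simp only [w, this, map_one]
      show gval (v - v) = 1
      rw [sub_self, gval_zero]
    · simp only [w]
      rw [hexact (mem_Rs.1 hb) v (Or.inl (hm.sharp il.2 _ hR e1 _ hv'.1 h1.symm)), sub_self, gval_zero]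
  · -- the index of `Y` in a half
    intro il
    set X := (gSub (hv il)).subgroupOf (T : Subgroup G)
    rw [show Ps il = X ⊔ (𝐘).subgroupOf (T : Subgroup G) from sup_comm _ _, relIndex_sup_right]
    have hmemX : ∀ x : ↥X, ∃ v ∈ hv il, gval v = ((x : ↥(T : Subgroup G)) : G) := fun x => x.2
    choose ξ hξ hξe using hmemX
    have hξadd : ∀ x y, ξ (x * y) = ξ x + ξ y := fun x y => gval_injective (by
      rw [hξe, gval_add, hξe, hξe]; rfl)
    let η : ↥X →* Multiplicative (↥(Pm il.2) ⧸ (fixS act B₀).addSubgroupOf (Pm il.2)) :=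
      MonoidHom.mk' (fun x => Multiplicative.ofAdd (QuotientAddGroup.mk
        (⟨(c il.1).ψ (ξ x), (mem_hv.1 (hξ x)).1⟩ : ↥(Pm il.2)))) fun x y => by
          rw [← ofAdd_add, ← QuotientAddGroup.mk_add]
          congr 2
          exact Subtype.ext (by simp [hξadd])
    have hker : η.ker = ((𝐘).subgroupOf (T : Subgroup G)).subgroupOf X := by
      ext x
      rw [MonoidHom.mem_ker, mem_subgroupOf]
      show Multiplicative.ofAdd _ = 1 ↔ _
      rw [ofAdd_eq_one, QuotientAddGroup.eq_zero_iff]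
      show (c il.1).ψ (ξ x) ∈ fixS act B₀ ↔ ((x : ↥(T : Subgroup G)) : G) ∈ 𝐘
      rw [← hξe x, ← f.mem_fix_J, d.fix_iff]
      refine ⟨fun h1 j => ?_, fun h1 => h1 il.1⟩
      by_cases ej : j = il.1
      · subst ej; exact h1
      · exact (mem_hv.1 (hξ x)).2 j ej
    have hsurj : Function.Surjective η := fun a => by
      obtain ⟨⟨z, hz⟩, rfl⟩ := (Multiplicative.ofAdd.surjective.comp QuotientAddGroup.mk_surjective) a
      obtain ⟨v, hv'⟩ := joint_surj c s.split (Function.update 0 il.1 z)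
      have hvm : v ∈ hv il := mem_hv.2 ⟨by rw [hv', Function.update_self]; exact hz,
        fun j hj => by rw [hv', Function.update_of_ne hj]; exact zero_mem _⟩
      refine ⟨⟨⟨gval v, hVT v⟩, v, hvm, rfl⟩, ?_⟩
      show Multiplicative.ofAdd _ = Multiplicative.ofAdd _
      congr 2
      refine Subtype.ext ?_
      show (c il.1).ψ (ξ _) = z
      rw [show ξ (⟨⟨gval v, hVT v⟩, v, hvm, rfl⟩ : ↥X) = v from gval_injective (hξe _), hv', Function.update_self]
    show (((𝐘).subgroupOf (T : Subgroup G)).subgroupOf X).index = q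
    rw [← hker, index_ker, MonoidHom.range_eq_top.2 hsurj, Subgroup.card_top,
      Nat.card_congr Multiplicative.toAdd]
    have h1 := AddSubgroup.card_eq_card_quotient_mul_card_addSubgroup ((fixS act B₀).addSubgroupOf (Pm il.2))
    rw [hm.P_card, Nat.card_congr (AddSubgroup.addSubgroupOfEquivOfLe (hm.fix_le il.2)).toEquiv] at h1
    exact (Nat.eq_of_mul_eq_mul_right Nat.card_pos h1).symm
  · -- the index of `QB` in a root group
    intro il
    let φ : ↥(Rs il) →* W := MonoidHom.mk' (fun b => chi c π il.1 ⟨_, hJsup (mem_Rs.1 b.2).1⟩) fun a b => by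
      rw [← map_mul]
      exact congrArg _ (Subtype.ext (map_mul 𝐦 ((a : ↥(T : Subgroup G)) : G) ((b : ↥(T : Subgroup G)) : G)))
    have hker : φ.ker ≤ ((𝐐𝐁).subgroupOf (T : Subgroup G)).subgroupOf (Rs il) := fun b hb => by
      obtain ⟨hB, hE⟩ := mem_Rs.1 b.2
      refine hQBof hB (congrArg Subtype.val (π.inj ⟨_, hJsup hB⟩ fun j => (c j).e.injective ?_))
      rw [map_one]
      by_cases ej : j = il.1
      · subst ej; exact hb
      · exact (hcoord hB hE).2 j ej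
    refine le_trans (Nat.le_of_dvd (Nat.pos_of_ne_zero index_ne_zero_of_finite) (index_dvd_of_le hker)) ?_
    rw [index_ker]
    haveI : Finite W := Finite.of_equiv _ (c il.1).e.toEquiv
    refine le_trans (card_le_of_le ?_) (hm.R_card il.2)
    rintro _ ⟨b, rfl⟩
    exact (hcoord (mem_Rs.1 b.2).1 (mem_Rs.1 b.2).2).1
  · -- commutators in `Y` of elements of `QB`
    intro x hx hxB c' hc
    have hz : ⁅(x : G), (c' : G)⁆ ∈ 𝐘 := hxB c' (f.QB_le_B hc)
    refine hN hz ?_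
    obtain ⟨w, hw, e⟩ := hk' (x : G) hx
    obtain ⟨w', hw', e'⟩ := hk' (c' : G) hc
    have h1 : k⁻¹ * ⁅(x : G), (c' : G)⁆ * k = ⁅(x : G) * w, (c' : G) * w'⁆ := by
      rw [← e, ← e']; simp only [commutatorElement_def]; group
    have hwx := hWC _ (f.YV_le_QB hw)
    have c1 : w * (c' * w') = c' * w' * w := (hWC _ (mul_mem hc (f.YV_le_QB hw')) w hw).symm
    have c2 : w' * (x : G) = x * w' := (hWC _ hx w' hw').symm
    show k⁻¹ * ⁅(x : G), (c' : G)⁆ * k ∈ 𝐘
    rw [h1, commutator_mul_central c1 c2]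
    exact hz
  · -- squares in `Y`
    intro x hx hxx
    refine hN hxx ?_
    obtain ⟨w, hw, e⟩ := hk' (x : G) hx
    have hw2 : w * w = 1 := f.YV_sq hw
    have hwx : w * (x : G) = x * w := (hWC _ hx w hw).symm
    show k⁻¹ * ((x : G) * x) * k ∈ 𝐘
    rw [show k⁻¹ * ((x : G) * x) * k = (k⁻¹ * x * k) * (k⁻¹ * x * k) by group, e,
      show (x : G) * w * (x * w) = x * x * (w * w) by
        rw [mul_assoc, ← mul_assoc w, hwx]; group, hw2, mul_one]
    exact hxx
  · -- members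
    intro x hx hxx hxc il
    obtain ⟨A, hA, hAR⟩ := hmemb il
    obtain ⟨hA₀, hA₀Q⟩ := f.inf_sup_mem hA
    have hAJ : A ≤ 𝐉 := by rw [PLocal.thompsonSubgroupOf_eq]; exact le_sSup hA
    have hA₀J : (A ⊓ centralizer (V : Set G)) ⊔ V ≤ 𝐉 := sup_le (inf_le_left.trans hAJ) f.V_le_J
    have hA₀QB : ∀ a ∈ (A ⊓ centralizer (V : Set G)) ⊔ V, a ∈ 𝐐𝐁 := fun a ha =>
      f.QB_eq.ge ⟨hA₀Q ha, thompson_le_baumann _ (hA₀J ha)⟩
    have hxA : (x : G) ∈ (A ⊓ centralizer (V : Set G)) ⊔ V := by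
      refine PLocal.mem_of_centralizes hA₀ x.2 ?_ (mem_centralizer_iff.2 fun a ha => ?_)
      · rw [pow_two]; exact congrArg Subtype.val hxx
      · exact (congrArg Subtype.val (hxc ⟨a, f.QB_le_T (hA₀QB a ha)⟩ (hA₀QB a ha))).symm
    obtain ⟨a, ha, v, hvV, e⟩ := mem_sup_of_normal_right.1 hxA
    refine ⟨⟨v, f.V_le_T hvV⟩, mem_sup_right hvV, fun b hb => Subtype.ext ?_⟩
    obtain ⟨hbB, z, hz, ez⟩ := mem_Rs.1 hb
    obtain ⟨α, hα, eα⟩ := hAR _ hz
    rw [MulEquiv.symm_apply_apply, ez] at eα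
    set c₁ := α⁻¹ * (b : G)
    have hc₁ : c₁ ∈ 𝐐𝐁 := hQBof (mul_mem (inv_mem (thompson_le_baumann _ (hAJ hα))) hbB)
      (by rw [map_mul, map_inv, eα, inv_mul_cancel])
    have hva : v * a = a * v := mem_centralizer_iff.1 ha.2 v hvV
    have hac : a * c₁ = c₁ * a := by
      have h1 : (x : G) * c₁ = c₁ * x := congrArg Subtype.val (hxc ⟨c₁, f.QB_le_T hc₁⟩ hc₁)
      have h2 : c₁ * v = v * c₁ := hWC _ hc₁ v (mem_sup_right hvV)
      rw [← e] at h1
      refine mul_right_cancel (b := v) ?_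
      rw [mul_assoc, h2, ← mul_assoc, h1]; group
    have hab : a * (b : G) = (b : G) * a := by
      haveI := hA.2.1.1
      have h1 : a * α = α * a := congrArg Subtype.val (mul_comm' (⟨a, ha.1⟩ : ↥A) ⟨α, hα⟩)
      calc a * (b : G) = a * α * c₁ := by rw [mul_assoc, show α * c₁ = (b : G) from mul_inv_cancel_left α (b : G)]
        _ = α * (a * c₁) := by rw [h1, mul_assoc]
        _ = α * c₁ * a := by rw [hac]; exact (mul_assoc α c₁ a).symm
        _ = (b : G) * a := by rw [show α * c₁ = (b : G) from mul_inv_cancel_left α (b : G)]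
    show ⁅(x : G), (b : G)⁆ = ⁅v, (b : G)⁆
    rw [← e]
    have hY : ⁅v, (b : G)⁆ ∈ 𝐘 := by
      rw [← gval_gmk (V := V) hvV, ← one_mul (gval _), f.comm_formula (one_mem _) _ hbB]
      exact hfixJ fun j => by rw [hpsi hbB j]; exact hm.quad _ (hchiK hbB j) _
    have hya : a * ⁅v, (b : G)⁆ = ⁅v, (b : G)⁆ * a := (mem_Y.1 hY).2.1 a (hAJ ha.1)
    calc ⁅a * v, (b : G)⁆ = a * ⁅v, (b : G)⁆ * a⁻¹ * ⁅a, (b : G)⁆ := by simp only [commutatorElement_def]; group
      _ = ⁅v, (b : G)⁆ := by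
        rw [hya, commutatorElement_eq_one_iff_mul_comm.2 hab]; group
  · -- maximality of `Y`
    intro x hx hxx hxB
    have hcentJ : ∀ t ∈ 𝐉, t * (x : G) = x * t := fun t ht =>
      (congrArg Subtype.val (hxB ⟨t, PLocal.thompsonSubgroupOf_le _ ht⟩ (thompson_le_baumann _ ht))).symm
    obtain ⟨A, hA⟩ := PLocal.exists_maxIn (Q := elemAb 2) PLocal.elemAb_bot (T : Subgroup G)
    have hxA : (x : G) ∈ A := PLocal.mem_of_centralizes hA x.2 (by rw [pow_two]; exact congrArg Subtype.val hxx)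
      (mem_centralizer_iff.2 fun a ha => hcentJ a (by rw [PLocal.thompsonSubgroupOf_eq]; exact mem_sSup_of_mem hA ha))
    refine mem_Y.2 ⟨by rw [PLocal.thompsonSubgroupOf_eq]; exact mem_sSup_of_mem hA hxA, hcentJ, ?_⟩
    rw [pow_two]; exact congrArg Subtype.val hxx
  · -- transitivity
    intro il km
    obtain ⟨a, ha, ha1⟩ := hm.R_ne il.2
    set y := (c il.1).e.symm a with hy
    have hyJ : (y : G ⧸ centralizer (V : Set G)) ∈ (𝐉).map 𝐦 := by
      refine (d.mem_iff ⟨y, le_iSup E il.1 y.2⟩).2 fun j => ?_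
      by_cases ej : j = il.1
      · subst ej
        rw [(chi_single c π y.2 _).1, Subtype.coe_eta, MulEquiv.apply_symm_apply]
        exact hm.R_le _ ha
      · rw [(chi_single c π y.2 _).2 j ej]; exact one_mem _
    obtain ⟨b, hb, eb⟩ := f.map_B.ge hyJ
    obtain ⟨_, ⟨t, ht, rfl⟩, et⟩ := s.split.conj il.1 km.1
    set y' : ↥(E km.1) := ⟨𝐦 t * y * (𝐦 t)⁻¹, et ▸ ⟨_, y.2, rfl⟩⟩
    have hy'J : (y' : G ⧸ centralizer (V : Set G)) ∈ (𝐉).map 𝐦 := d.norm _ (mem_map_of_mem _ ht) _ hyJ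
    have hg'K : (c km.1).e y' ∈ B₀ := by
      have h1 := (d.mem_iff ⟨y', le_iSup E km.1 y'.2⟩).1 hy'J km.1
      rwa [(chi_single c π y'.2 _).1] at h1
    have hg'1 : (c km.1).e y' ≠ 1 := fun e1 => ha1 (by
      have h1 : 𝐦 t * y * (𝐦 t)⁻¹ = 1 :=
        congrArg Subtype.val ((c km.1).e.injective (e1.trans (map_one _).symm))
      rw [conj_eq_one_iff] at h1
      rw [← (c il.1).e.apply_symm_apply a, ← hy, show y = 1 from Subtype.ext h1, map_one])
    have hcard : Nat.card {z : S // act a z = z} ≤ Nat.card {z : S // act ((c km.1).e y') z = z} := by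
      choose lift hlift hlifte using (c il.1).surj
      refine Nat.card_le_card_of_injective
        (fun z => ⟨(c km.1).ψ (zAct (V := V) (𝐦 t) (lift z.1)), ?_⟩) fun z z' e => Subtype.ext ?_
      · have h1 : zAct (V := V) (y : G ⧸ centralizer (V : Set G)) (lift z.1) - lift z.1 ∈
            fixS (zAct (V := V)) (E il.1) :=
          ((c il.1).ker _).1 (by rw [map_sub, (c il.1).equiv, hlifte, MulEquiv.apply_symm_apply, z.2, sub_self])
        have h2 := apply_mem_fix_cj (σ := zAct (V := V)) (𝐦 t) h1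
        rw [et, map_sub, ← app_mul] at h2
        rw [← (c km.1).equiv, ← sub_eq_zero, ← map_sub, (c km.1).ker, ← app_mul]
        show zAct (V := V) (𝐦 t * y * (𝐦 t)⁻¹ * 𝐦 t) _ - _ ∈ _
        rwa [inv_mul_cancel_right]
      · have h1 : zAct (V := V) (𝐦 t) (lift z.1 - lift z'.1) ∈ fixS (zAct (V := V)) (E km.1) := by
          rw [map_sub, ← (c km.1).ker, map_sub, sub_eq_zero]
          exact congrArg Subtype.val e
        rw [← et, mem_fix_cj, OffenderSL2.app_inv_self, ← (c il.1).ker, map_sub, hlifte, hlifte, sub_eq_zero] at h1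
        exact h1
    obtain ⟨m, hm'⟩ := hm.pure _ hg'K hg'1 ((hm.small il.2 a ha).trans (Nat.mul_le_mul_left q hcard))
    obtain ⟨w, ⟨z, hz, hzw⟩, hw⟩ := htr km.1 m km.2
    obtain ⟨t', ht', et'⟩ : ∃ t' ∈ (T : Subgroup G), 𝐦 t' = (z : G ⧸ centralizer (V : Set G)) := hz
    have hbR : (⟨b, hb.1⟩ : ↥(T : Subgroup G)) ∈ Rs il :=
      mem_Rs.2 ⟨hb, y, by rw [hy, MulEquiv.apply_symm_apply]; exact ha, eb.symm⟩
    refine ⟨⟨t' * t, mul_mem ht' ht⟩, ⟨b, hb.1⟩, hbR, fun hc => ha1 ?_, mem_Rs.2 ⟨?_, z * y' * z⁻¹, ?_, ?_⟩⟩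
    · have h1 : (y : G ⧸ centralizer (V : Set G)) = 1 := eb.symm.trans (hQBone hc)
      rw [← (c il.1).e.apply_symm_apply a, ← hy, show y = 1 from Subtype.ext h1, map_one]
    · exact (mem_normalizer_iff.1 (Baumann.baumann_normalized T T.2 inf_le_left (mul_mem ht' ht)) b).1 hb
    · rw [map_mul, map_mul, map_inv, show (c km.1).e z = w from hzw]
      exact hw _ hm'
    · show (z : G ⧸ centralizer (V : Set G)) * (𝐦 t * y * (𝐦 t)⁻¹) * (z : G ⧸ centralizer (V : Set G))⁻¹ = _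
      show _ = 𝐦 ((t' * t) * b * (t' * t)⁻¹)
      rw [map_mul, map_mul, map_inv, map_mul, et', eb]
      group

end Cover

end Cfsg.Agent.FFPush
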