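import Cfsg.Agent.Lib.FFPush.CoverLin
import Cfsg.Agent.Lib.FFPush.CoverSym
import Cfsg.Agent.Lib.FFPush.HalvesFrame

/-!
A normal subgroup invariant under automorphisms of odd order of the Sylow subgroup.

* `Cover.exists_invariant` : from the halves
* `exists_invariant_normal` : in a 2-minimal group in the situation of pushing up
-/

set_option autoImplicit false

namespace Cfsg.Agent.FFPush

open Subgroup
open scoped commutatorElement IsMulCommutative MatrixGroups
open FFMinimal (zAct)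

universe u

variable {G : Type u} [Group G] [Finite G] [Fact (Nat.Prime 2)] {T : Sylow 2 G} {M V : Subgroup G}

local notation "𝐁" => Cfsg.baumannSubgroupOf 2 (T : Subgroup G)
local notation "𝐉" => Cfsg.thompsonSubgroupOf 2 (T : Subgroup G)
local notation "𝐘" => Y 2 (T : Subgroup G)

section Frame

variable [V.Normal] [IsMulCommutative ↥V] {r : ℕ} {E : Fin r → Subgroup (G ⧸ centralizer (V : Set G))}
  {g : G} {K : Fin r → Subgroup G}

local notation "𝐦" => QuotientGroup.mk' (centralizer (V : Set G))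

/-- The invariant normal subgroup. -/
theorem Cover.exists_invariant (h : Cover T M V E g K) {N : Subgroup ↥(T : Subgroup G)} {q : ℕ} {ι : Type}
    {Rs Ps : ι → Subgroup ↥(T : Subgroup G)}
    (hh : Halves ((𝐘 ⊔ V).subgroupOf (T : Subgroup G)) ((𝐘).subgroupOf (T : Subgroup G))
      ((𝐁).subgroupOf (T : Subgroup G)) ((QB 2 (T : Subgroup G)).subgroupOf (T : Subgroup G)) N q Rs Ps)
    (hne : 𝐘 ⊔ V ≠ ⊥) (A : Subgroup (MulAut ↥(T : Subgroup G))) (hA : Odd (Nat.card ↥A))
    (hB : ((𝐁).subgroupOf (T : Subgroup G)).Characteristic)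
    (hY : ((𝐘).subgroupOf (T : Subgroup G)).Characteristic) :
    ∃ U : Subgroup G, U ≠ ⊥ ∧ U.Normal ∧ U ≤ (T : Subgroup G) ∧
      ∀ a ∈ A, ∀ x : ↥(T : Subgroup G), (x : G) ∈ U → ((a x : ↥(T : Subgroup G)) : G) ∈ U := by
  haveI hYV := h.frame.YV_normal
  set W := (𝐘 ⊔ V).subgroupOf (T : Subgroup G)
  have hle := hh.map_le A hA (fun a _ => characteristic_iff_map_eq.1 hB a)
    (fun a _ => characteristic_iff_map_eq.1 hY a)
  set U₀ : Subgroup ↥(T : Subgroup G) := ⨆ a : ↥A, W.map (a : MulAut ↥(T : Subgroup G)).toMonoidHom with hU₀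
  have hWU : W ≤ U₀ := fun x hx => mem_iSup_of_mem (1 : ↥A) ⟨x, hx, rfl⟩
  have hUQ : U₀ ≤ (QB 2 (T : Subgroup G)).subgroupOf (T : Subgroup G) := iSup_le fun a => hle a.1 a.2
  haveI hWn : W.Normal := normal_subgroupOf
  haveI : U₀.Normal := by
    refine normalizer_eq_top_iff.1 (top_le_iff.1 fun s _ => mem_normalizer_iff_map_conj_eq.2 ?_)
    show U₀.map (MulAut.conj s).toMonoidHom = U₀
    rw [hU₀, Subgroup.map_iSup]
    refine iSup_congr fun a => ?_
    have hn : (W.map (a : MulAut ↥(T : Subgroup G)).toMonoidHom).Normal :=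
      Normal.map hWn _ (MulEquiv.surjective _)
    exact mem_normalizer_iff_map_conj_eq.1 ((normalizer_eq_top_iff.2 hn).ge (mem_top s))
  set U := U₀.map (T : Subgroup G).subtype with hU
  have hWU' : 𝐘 ⊔ V ≤ U := fun x hx => by
    have hxT : x ∈ (T : Subgroup G) :=
      h.frame.QB_le_T (h.frame.YV_le_QB hx)
    exact ⟨⟨x, hxT⟩, hWU hx, rfl⟩
  refine ⟨U, fun e => hne (le_bot_iff.1 (e ▸ hWU')), ?_, map_subtype_le _, fun a ha x hx => ?_⟩
  · refine normalizer_eq_top_iff.1 (top_le_iff.1 (h.sup_eq_top.ge.trans (sup_le (iSup_le fun i k hk => ?_) ?_)))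
    · haveI hQBn := h.frame.QB_normal
      have key : ∀ k ∈ K i, ∀ x ∈ U, k * x * k⁻¹ ∈ U := by
        rintro k hk _ ⟨x, hx, rfl⟩
        have hxQ : (x : G) ∈ QB 2 (T : Subgroup G) := hUQ hx
        obtain ⟨w, hw, e⟩ := h.member_fix i hk hxQ
        show k * (x : G) * k⁻¹ ∈ U
        rw [e]
        exact mul_mem ⟨x, hx, rfl⟩ (hWU' hw)
      refine mem_normalizer_iff.2 fun x => ⟨key k hk x, fun hx => ?_⟩
      have := key k⁻¹ (inv_mem hk) _ hx
      simpa [mul_assoc] using this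
    · intro t ht
      refine mem_normalizer_iff.2 fun x => ⟨?_, fun hx => ?_⟩
      · rintro ⟨y, hy, rfl⟩
        exact ⟨⟨t, ht⟩ * y * ⟨t, ht⟩⁻¹, (inferInstance : U₀.Normal).conj_mem y hy _, rfl⟩
      · obtain ⟨y, hy, e⟩ := hx
        refine ⟨(⟨t, ht⟩ : ↥(T : Subgroup G))⁻¹ * y * ⟨t, ht⟩, by
          simpa using (inferInstance : U₀.Normal).conj_mem y hy ⟨t, ht⟩⁻¹, ?_⟩
        show t⁻¹ * (y : G) * t = x
        rw [show (y : G) = t * x * t⁻¹ from e]; group
  · obtain ⟨y, hy, e⟩ := hx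
    obtain rfl : y = x := Subtype.ext e
    refine mem_map_of_mem _ ?_
    have h1 : U₀.map a.toMonoidHom ≤ U₀ := by
      rw [hU₀, Subgroup.map_iSup]
      refine iSup_le fun b => ?_
      rw [Subgroup.map_map]
      exact le_iSup (fun c : ↥A => W.map (c : MulAut ↥(T : Subgroup G)).toMonoidHom) ⟨a * b.1, A.mul_mem ha b.2⟩
    exact h1 (mem_map_of_mem _ hy)

/-- The halves over linear components. -/
theorem Frame.exists_lin_halves (f : Frame T M V E g) {n : ℕ} {F : Type} [Field F] [Fintype F] (hn : 1 ≤ n)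
    (hF : Fintype.card F = 2 ^ n) (c : ∀ i, Single (zAct (V := V)) (linAct F) (E i)) (π : Proj E)
    (d : Std 2 ((T : Subgroup G).map 𝐦) c π (Cfsg.upperUnipotentSL2 F) ((𝐉).map 𝐦)) :
    ∃ (K : Fin r → Subgroup G) (N : Subgroup ↥(T : Subgroup G))
      (Rs Ps : Fin r × Unit → Subgroup ↥(T : Subgroup G)), Cover T M V E g K ∧
        Halves ((𝐘 ⊔ V).subgroupOf (T : Subgroup G)) ((𝐘).subgroupOf (T : Subgroup G))
          ((𝐁).subgroupOf (T : Subgroup G)) ((QB 2 (T : Subgroup G)).subgroupOf (T : Subgroup G)) N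
          (Nat.card F) Rs Ps := by
  obtain ⟨K, hK⟩ := f.exists_lin_members hn hF c π d
  choose hmap hblock Xb φ hP using hK
  have hcore : ∀ i, core' (c i) = ⁅E i, E i⁆ := fun i => derived_coords (c i).e
  have hcov : Cover T M V E g K := by
    refine ⟨f, fun i => (hP i).member ((hmap i).trans (hcore i)) (hblock i), fun i x hx => ?_⟩
    have htop : commutator SL(2, F) ⊔ Cfsg.upperUnipotentSL2 F = ⊤ := by
      obtain ⟨Q, hQ⟩ := (upper_isPGroup hF).exists_le_sylow
      rw [← commutator_eq_residual hn hF, eq_top_iff, ← PReduced.pResidual_sup_sylow Q]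
      refine sup_le_sup le_rfl ?_
      rw [sylow_upper hn hF Q.2 (upperSub_eq.le.trans hQ), upperSub_eq]
    obtain ⟨a, ha, b, hb, e⟩ := mem_sup_of_normal_left.1 (htop.ge (mem_top ((c i).e ⟨x, hx⟩)))
    have e1 : (⟨x, hx⟩ : ↥(E i)) = (c i).e.symm a * (c i).e.symm b := by
      rw [← map_mul, e, MulEquiv.symm_apply_apply]
    rw [show x = ((c i).e.symm a : G ⧸ centralizer (V : Set G)) * ((c i).e.symm b : G ⧸ centralizer (V : Set G))
      from congrArg Subtype.val e1]
    refine mul_mem (mem_sup_left ((hcore i).le ((mem_core' (c i)).2 ⟨((c i).e.symm a).2, ?_⟩)))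
      (mem_sup_right ((d.mem_iff ⟨_, le_iSup E i ((c i).e.symm b).2⟩).2 fun j => ?_))
    · rwa [Subtype.coe_eta, MulEquiv.apply_symm_apply]
    · by_cases ej : j = i
      · subst ej; rwa [(chi_single c π ((c j).e.symm b).2 _).1, Subtype.coe_eta, MulEquiv.apply_symm_apply]
      · rw [(chi_single c π ((c i).e.symm b).2 _).2 j ej]; exact one_mem _
  obtain ⟨N, Rs, Ps, hh⟩ := hcov.exists_halves c π d (lin_pairs (p := 2)) fun i l m =>
    ⟨1, one_mem _, fun a ha => by simpa using ha⟩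
  exact ⟨K, N, Rs, Ps, hcov, hh⟩

/-- The halves over symmetric components. -/
theorem Frame.exists_sym_halves {k : ℕ} (f : Frame T M V E g) {n : ℕ} (hn : 1 ≤ n) (hk : 2 * k = 2 ^ n)
    (c : ∀ i, Single (zAct (V := V)) (permAct (2 * k + 1)) (E i)) (π : Proj E)
    (h0 : ∀ i, ∀ q ∈ (c i).img ((T : Subgroup G).map 𝐦), q 0 = 0)
    (d : Std 2 ((T : Subgroup G).map 𝐦) c π (pairGrp (2 * k + 1)) ((𝐉).map 𝐦)) :
    ∃ (K : Fin r → Subgroup G) (N : Subgroup ↥(T : Subgroup G))
      (Rs Ps : Fin r × Fin k → Subgroup ↥(T : Subgroup G)), Cover T M V E g K ∧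
        Halves ((𝐘 ⊔ V).subgroupOf (T : Subgroup G)) ((𝐘).subgroupOf (T : Subgroup G))
          ((𝐁).subgroupOf (T : Subgroup G)) ((QB 2 (T : Subgroup G)).subgroupOf (T : Subgroup G)) N 2 Rs Ps := by
  classical
  have hk1 : 1 ≤ k := by
    have := Nat.pow_le_pow_right (n := 2) (by omega) hn
    omega
  have hsurj := QuotientGroup.mk'_surjective (centralizer (V : Set G))
  set Tb : Sylow 2 (G ⧸ centralizer (V : Set G)) := T.mapSurjective hsurj
  have s : Setting (zAct (V := V)) 2 (Tb : Subgroup (G ⧸ centralizer (V : Set G))) E := f.set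
  have hcore : ∀ i, altCore (c i) = ⁅E i, E i⁆ := fun i => by
    rw [← derived_coords (c i).e, derived_perm hk1]; rfl
  choose K hK using fun i => f.exists_sym_member hn hk c π h0 d i
  have hcov : Cover T M V E g K := by
    refine ⟨f, fun i => hcore i ▸ hK i, fun i x hx => ?_⟩
    rw [← hcore i]
    have htop : alternatingGroup (Fin (2 * k + 1)) ⊔ pairGrp (2 * k + 1) = ⊤ := eq_top_of_swaps fun a ha => by
      have h := mul_mem (mem_sup_left (T := pairGrp (2 * k + 1)) (tri_cycle ha).mem_alternatingGroup)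
        (mem_sup_right (S := alternatingGroup (Fin (2 * k + 1))) (swap_mem_pairGrp _ a))
      rwa [tri, Equiv.mul_swap_mul_self] at h
    obtain ⟨a, ha, b, hb, e⟩ := mem_sup_of_normal_left.1 (htop.ge (mem_top ((c i).e ⟨x, hx⟩)))
    have e1 : (⟨x, hx⟩ : ↥(E i)) = (c i).e.symm a * (c i).e.symm b := by
      rw [← map_mul, e, MulEquiv.symm_apply_apply]
    rw [show x = ((c i).e.symm a : G ⧸ centralizer (V : Set G)) * ((c i).e.symm b : G ⧸ centralizer (V : Set G))
      from congrArg Subtype.val e1]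
    refine mul_mem (mem_sup_left ((mem_altCore (c i)).2 ⟨((c i).e.symm a).2, ?_⟩)) (mem_sup_right ?_)
    · rwa [Subtype.coe_eta, MulEquiv.apply_symm_apply]
    · refine (d.mem_iff ⟨_, le_iSup E i ((c i).e.symm b).2⟩).2 fun j => ?_
      by_cases e : j = i
      · subst e
        rwa [(chi_single c π ((c j).e.symm b).2 _).1, Subtype.coe_eta, MulEquiv.apply_symm_apply]
      · rw [(chi_single c π ((c i).e.symm b).2 _).2 j e]; exact one_mem _
  obtain ⟨N, Rs, Ps, hh⟩ := hcov.exists_halves c π d (sym_pairs hk1) fun i l m => by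
    obtain ⟨w, hw, hwl⟩ := transitive_of_max hn hk _ ((IsPGroup.comap_subtype (T.2.map 𝐦)).map _)
      (fun Q hQ hle => s.img_max (c i) hQ hle) (h0 i) (pairPt_ne_zero l) (pairPt_ne_zero m)
    refine ⟨w, hw, fun a ha => ?_⟩
    rcases pairRoot_eq ha with rfl | rfl
    · simp
    obtain ⟨y, hy, rfl⟩ := hw
    -- the pairs are permuted
    have hmem : (c i).e y * Equiv.swap (pairPt l) (pairing _ (pairPt l)) * ((c i).e y)⁻¹ ∈
        pairGrp (2 * k + 1) := by
      set z := (c i).e.symm (Equiv.swap (pairPt l) (pairing _ (pairPt l))) with hz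
      have hzJ : (z : G ⧸ centralizer (V : Set G)) ∈ (𝐉).map 𝐦 := by
        refine (d.mem_iff ⟨z, le_iSup E i z.2⟩).2 fun j => ?_
        by_cases ej : j = i
        · subst ej
          rw [(chi_single c π z.2 _).1, Subtype.coe_eta, hz, MulEquiv.apply_symm_apply]
          exact swap_mem_pairGrp _ _
        · rw [(chi_single c π z.2 _).2 j ej]; exact one_mem _
      have h1 := (d.mem_iff ⟨_, le_iSup E i (y * z * y⁻¹).2⟩).1 (d.norm _ hy _ hzJ) i
      rw [(chi_single c π (y * z * y⁻¹).2 _).1, Subtype.coe_eta, map_mul, map_mul, map_inv, hz,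
        MulEquiv.apply_symm_apply] at h1
      exact h1
    show (c i).e y * Equiv.swap (pairPt l) (pairing _ (pairPt l)) * ((c i).e y)⁻¹ ∈ pairRoot m
    rw [← Equiv.swap_apply_apply] at hmem ⊢
    rw [show (c i).e y (pairPt l) = pairPt m from hwl] at hmem ⊢
    have h1 := hmem (pairPt m)
    rw [Equiv.swap_apply_left] at h1
    rw [h1.resolve_left fun e => nu_pairPt_ne l (((c i).e y).injective (e.trans hwl.symm))]
    exact swap_mem_pairRoot m
  exact ⟨K, N, Rs, Ps, hcov, hh⟩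

end Frame

/-- An invariant normal subgroup of the Sylow subgroup in the situation of pushing up. -/
theorem exists_invariant_normal {G : Type u} [Group G] [Finite G] (hmin : Cfsg.IsPMinimal 2 G)
    (hG : centralizer (Cfsg.pCore 2 G : Set G) ≤ Cfsg.pCore 2 G) (T : Sylow 2 G)
    (A : Subgroup (MulAut ↥(T : Subgroup G))) (hA : Odd (Nat.card ↥A))
    (hz : ¬ (Cfsg.omegaOneCenter 2 (T : Subgroup G)).Normal)
    (hchar : ∀ C : Subgroup G, C ≤ Cfsg.baumannSubgroupOf 2 (T : Subgroup G) → C ≠ ⊥ →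
      (C.subgroupOf (Cfsg.baumannSubgroupOf 2 (T : Subgroup G))).Characteristic → ¬ C.Normal)
    (hB : ((Cfsg.baumannSubgroupOf 2 (T : Subgroup G)).subgroupOf (T : Subgroup G)).Characteristic)
    (hY : ((Y 2 (T : Subgroup G)).subgroupOf (T : Subgroup G)).Characteristic) :
    ∃ U : Subgroup G, U ≠ ⊥ ∧ U.Normal ∧ U ≤ (T : Subgroup G) ∧
      ∀ a ∈ A, ∀ x : ↥(T : Subgroup G), (x : G) ∈ U → ((a x : ↥(T : Subgroup G)) : G) ∈ U := by
  haveI : Fact (Nat.Prime 2) := ⟨Nat.prime_two⟩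
  obtain ⟨M, st⟩ := exists_start hmin hG T hchar hz
  revert st
  generalize Cfsg.omegaOneCenter 2 (Cfsg.pCore 2 G) = V
  intro st
  haveI := st.setup.elem.1
  haveI := st.setup.normal
  have hne : Y 2 (T : Subgroup G) ⊔ V ≠ ⊥ := fun e => hz (by
    rw [le_bot_iff.1 ((st.setup.omega.trans le_sup_right).trans e.le)]
    infer_instance)
  obtain ⟨r, E, g, π, f, ⟨n, F, _, _, hn, hF, c, -, d⟩ | ⟨-, n, m, hn, hm, c, h0, -, d⟩⟩ := st.exists_frame
  · obtain ⟨K, N, Rs, Ps, hcov, hh⟩ := f.exists_lin_halves hn hF c π d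
    exact hcov.exists_invariant hh hne A hA hB hY
  · obtain ⟨k, rfl⟩ : ∃ k, m = 2 * k := ⟨2 ^ (n - 1), by
      rw [hm, ← pow_succ', Nat.sub_add_cancel hn]⟩
    obtain ⟨K, N, Rs, Ps, hcov, hh⟩ := f.exists_sym_halves hn hm c π h0 d
    exact hcov.exists_invariant hh hne A hA hB hY

end Cfsg.Agent.FFPush
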